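import Mathlib
import Cfsg.Prelude.Def_Transfer
import Cfsg.Agent.MaxClass.Metacyclic
import Cfsg.Agent.Classical.LinearBasic

/-!
Group theory for the trio local subgroup: normalisers in images, in `S₅ × L₃(2)`, the action on a
fours-or-eights group, and a criterion for special groups.
-/

set_option autoImplicit false

open Subgroup

namespace Cfsg.Agent.J4Type.Trio

/-- The normaliser of a subgroup of order `p`, exactly dividing, maps onto the one of its image. -/
theorem normalizer_bound {M X : Type*} [Group M] [Group X] [Finite M] {p : ℕ} [Fact p.Prime]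
    (f : M →* X) (hf : Function.Surjective f) (S : Subgroup M) (hS : Nat.card S = p)
    (h2 : ¬ p ^ 2 ∣ Nat.card M) (_hk : ¬ p ∣ Nat.card f.ker) :
    Nat.card (normalizer ((S.map f : Subgroup X) : Set X)) *
      Nat.card ↥(f.ker ⊓ centralizer (S : Set M)) ≤ Nat.card (normalizer (S : Set M)) := by
  set T := S.map f with hT
  set N := normalizer (S : Set M)
  -- every element normalising the image lifts
  have hlift : ∀ x ∈ normalizer ((T : Subgroup X) : Set X), ∃ n ∈ N, f n = x := by
    intro x hx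
    obtain ⟨m, rfl⟩ := hf x
    set L := T.comap f with hL
    have hSL : S ≤ L := le_comap_map f S
    set S' := S.map (MulAut.conj m).toMonoidHom with hS'
    have hS'L : S' ≤ L := by
      rintro _ ⟨s, hs, rfl⟩
      rw [hL, mem_comap]
      show f (m * s * m⁻¹) ∈ T
      rw [map_mul, map_mul, map_inv]
      exact (mem_normalizer_iff.1 hx (f s)).1 (mem_map_of_mem f hs)
    have hsyl : ∀ R : Subgroup M, R ≤ L → Nat.card R = p → ∃ P : Sylow p ↥L, (P : Subgroup ↥L).map L.subtype = R := by
      intro R hR hc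
      have hc' : Nat.card ↥(R.subgroupOf L) = p := by
        rw [Nat.card_congr (subgroupOfEquivOfLe hR).toEquiv, hc]
      obtain ⟨P, hP⟩ := (IsPGroup.of_card (n := 1) (by rw [pow_one]; exact hc') :
        IsPGroup p ↥(R.subgroupOf L)).exists_le_sylow
      obtain ⟨k, hk⟩ := IsPGroup.iff_card.1 P.isPGroup'
      have hdvd : p ^ k ∣ Nat.card M := hk ▸ ((P : Subgroup ↥L).card_subgroup_dvd_card.trans L.card_subgroup_dvd_card)
      have hk1 : k ≤ 1 := by
        by_contra hcon
        exact h2 ((pow_dvd_pow p (by omega : 2 ≤ k)).trans hdvd)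
      have he : R.subgroupOf L = (P : Subgroup ↥L) := by
        refine eq_of_le_of_card_ge hP ?_
        rw [hk, hc']
        calc p ^ k ≤ p ^ 1 := Nat.pow_le_pow_right (Fact.out : p.Prime).pos hk1
          _ = p := pow_one p
      exact ⟨P, by rw [← he, subgroupOf_map_subtype, inf_eq_left.2 hR]⟩
    have hcS' : Nat.card S' = p := by
      rw [hS', card_map_of_injective (MulAut.conj m).injective, hS]
    obtain ⟨P, hP⟩ := hsyl S hSL hS
    obtain ⟨Q, hQ⟩ := hsyl S' hS'L hcS'
    obtain ⟨l, hl⟩ := MulAction.exists_smul_eq ↥L Q P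
    have hlS : S'.map (MulAut.conj (l : M)).toMonoidHom = S := by
      rw [← hP, ← hl, ← hQ, Sylow.coe_subgroup_smul]
      ext y
      constructor
      · rintro ⟨_, ⟨q, hq, rfl⟩, rfl⟩
        exact ⟨_, ⟨q, hq, rfl⟩, rfl⟩
      · rintro ⟨_, ⟨q, hq, rfl⟩, rfl⟩
        exact ⟨_, ⟨q, hq, rfl⟩, rfl⟩
    obtain ⟨s, hs, hsl⟩ : f (l : M) ∈ S.map f := mem_comap.1 l.2
    have hn : (l : M) * m ∈ N := mem_normalizer_iff.2 fun y => by
      have e : S.map (MulAut.conj ((l : M) * m)).toMonoidHom = S := by
        conv_rhs => rw [← hlS, hS', map_map]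
        congr 1
        ext y
        simp [mul_assoc]
      constructor
      · exact fun hy => e.le ⟨y, hy, rfl⟩
      · intro hy
        obtain ⟨y', hy', ey⟩ := e.ge hy
        have : y' = y := (MulAut.conj ((l : M) * m)).injective ey
        exact this ▸ hy'
    refine ⟨s⁻¹ * ((l : M) * m), mul_mem (inv_mem (le_normalizer hs)) hn, ?_⟩
    rw [map_mul, map_mul, map_inv, hsl, inv_mul_cancel_left]
  haveI : Finite X := Finite.of_surjective f hf
  let g : ↥N →* X := f.comp N.subtype
  have hle : normalizer ((T : Subgroup X) : Set X) ≤ g.range := fun x hx => by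
    obtain ⟨n, hn, e⟩ := hlift x hx
    exact ⟨⟨n, hn⟩, e⟩
  have hC : f.ker ⊓ centralizer (S : Set M) ≤ N := fun c hc =>
    centralizer_le_normalizer _ hc.2
  have hk' : (f.ker ⊓ centralizer (S : Set M)).subgroupOf N ≤ g.ker := fun c hc => hc.1
  have h1 := g.ker.card_eq_card_quotient_mul_card_subgroup
  rw [Nat.card_congr (QuotientGroup.quotientKerEquivRange g).toEquiv] at h1
  rw [h1]
  refine Nat.mul_le_mul (Subgroup.card_le_of_le hle) ?_
  rw [← Nat.card_congr (subgroupOfEquivOfLe hC).toEquiv]
  exact Subgroup.card_le_of_le hk'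

/-- `S₅ × L₃(2)`. -/
abbrev X5 : Type := Equiv.Perm (Fin 5) × Matrix.SpecialLinearGroup (Fin 3) (ZMod 2)

theorem card_sl_three : Nat.card (Matrix.SpecialLinearGroup (Fin 3) (ZMod 2)) = 168 := by
  have h2 := Classical.card_sl_mul (F := ZMod 2) (ZMod.card 2) 3 (by norm_num)
  rw [show (∏ i : Fin 3, (2 ^ 3 - 2 ^ (i : ℕ))) = 168 from by decide, show 2 - 1 = 1 from rfl,
    one_mul] at h2
  exact h2

theorem card_perm_five : Nat.card (Equiv.Perm (Fin 5)) = 120 := by
  rw [Nat.card_perm, Nat.card_eq_fintype_card, Fintype.card_fin]; rfl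

/-- The index of the normaliser of a subgroup of prime order exactly dividing. -/
theorem index_normalizer_cases {H : Type*} [Group H] [Finite H] {p m : ℕ} [Fact p.Prime]
    (hH : Nat.card H = p * m) (hm : ¬ p ∣ m) (T : Subgroup H) (hT : Nat.card T = p) :
    (normalizer (T : Set H)).index ∣ m ∧ (normalizer (T : Set H)).index % p = 1 := by
  have hp : p.Prime := Fact.out
  have hm0 : m ≠ 0 := fun e => hm (e ▸ dvd_zero p)
  have hfac : (Nat.card H).factorization p = 1 := by
    rw [hH, Nat.factorization_mul hp.ne_zero hm0, Finsupp.add_apply, hp.factorization_self,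
      Nat.factorization_eq_zero_of_not_dvd hm]
  let P : Sylow p H := Sylow.ofCard T (by rw [hT, hfac, pow_one])
  have hP : (P : Subgroup H) = T := rfl
  have h1 := Sylow.card_dvd_index P
  have h2 : (P : Subgroup H).index = m := by
    have h3 := (P : Subgroup H).card_mul_index
    rw [hP, hT, hH] at h3
    rw [hP]
    exact Nat.eq_of_mul_eq_mul_left hp.pos h3
  have hi : (normalizer (T : Set H)).index = Nat.card (Sylow p H) := by
    rw [Sylow.card_eq_index_normalizer P]; rfl
  refine ⟨hi ▸ h2 ▸ h1, ?_⟩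
  have h4 : Nat.card (Sylow p H) % p = 1 % p := card_sylow_modEq_one p H
  rw [hi, h4, Nat.mod_eq_of_lt hp.one_lt]

/-- A product of normalisers normalises a subgroup of one factor. -/
theorem norm_five (T : Subgroup X5) (h : Nat.card T = 5) :
    3360 ≤ Nat.card (normalizer (T : Set X5)) := by
  haveI : Fact (Nat.Prime 5) := ⟨by norm_num⟩
  have h2 : ∀ x ∈ T, x.2 = 1 := fun x hx => by
    have h5 : x ^ 5 = 1 := by
      have := Subgroup.orderOf_dvd_natCard T hx
      rw [h] at this
      exact orderOf_dvd_iff_pow_eq_one.1 this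
    refine orderOf_eq_one_iff.1 (Nat.eq_one_of_dvd_coprimes (show Nat.Coprime 5 168 by norm_num) ?_ ?_)
    · exact orderOf_dvd_of_pow_eq_one (congrArg Prod.snd h5)
    · rw [← card_sl_three]; exact orderOf_dvd_natCard x.2
  set T₁ := T.map (MonoidHom.fst _ _) with hT₁
  have hTp : T = T₁.prod ⊥ := by
    ext x
    constructor
    · intro hx
      exact ⟨⟨x, hx, rfl⟩, mem_bot.2 (h2 x hx)⟩
    · rintro ⟨⟨y, hy, e⟩, hx2⟩
      rwa [show x = y from Prod.ext e.symm ((mem_bot.1 hx2).trans (h2 y hy).symm)]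
  have hc : Nat.card T₁ = 5 := by
    have e := congrArg (fun U : Subgroup X5 => Nat.card U) hTp
    simp only [h, Nat.card_congr (Subgroup.prodEquiv T₁ ⊥).toEquiv, Nat.card_prod, Subgroup.card_bot,
      mul_one] at e
    exact e.symm
  obtain ⟨hd, hmod⟩ := index_normalizer_cases (m := 24) card_perm_five (by norm_num) T₁ hc
  have hle : (normalizer (T₁ : Set _)).prod ⊤ ≤ normalizer (T : Set X5) := by
    rintro x ⟨hx1, -⟩
    refine mem_normalizer_iff.2 fun y => ?_
    rw [hTp, Subgroup.mem_prod, Subgroup.mem_prod, mem_bot, mem_bot]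
    refine and_congr (mem_normalizer_iff.1 hx1 y.1) ?_
    exact conj_eq_one_iff.symm
  refine le_trans ?_ (Subgroup.card_le_of_le hle)
  rw [Nat.card_congr (Subgroup.prodEquiv _ _).toEquiv, Nat.card_prod, Subgroup.card_top, card_sl_three]
  have hi : (normalizer (T₁ : Set (Equiv.Perm (Fin 5)))).index ≤ 6 := by
    have hle24 := Nat.le_of_dvd (by norm_num) hd
    revert hd hmod hle24
    generalize (normalizer (T₁ : Set (Equiv.Perm (Fin 5)))).index = i
    intro hd hmod hle24
    interval_cases i <;> omega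
  have h3 := (normalizer (T₁ : Set (Equiv.Perm (Fin 5)))).card_mul_index
  rw [card_perm_five] at h3
  have h4 : Nat.card ↥(normalizer (T₁ : Set (Equiv.Perm (Fin 5)))) * 6 ≥ 120 :=
    h3 ▸ Nat.mul_le_mul le_rfl hi
  omega

theorem norm_seven (T : Subgroup X5) (h : Nat.card T = 7) :
    2520 ≤ Nat.card (normalizer (T : Set X5)) := by
  haveI : Fact (Nat.Prime 7) := ⟨by norm_num⟩
  have h2 : ∀ x ∈ T, x.1 = 1 := fun x hx => by
    have h7 : x ^ 7 = 1 := by
      have := Subgroup.orderOf_dvd_natCard T hx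
      rw [h] at this
      exact orderOf_dvd_iff_pow_eq_one.1 this
    refine orderOf_eq_one_iff.1 (Nat.eq_one_of_dvd_coprimes (show Nat.Coprime 7 120 by norm_num) ?_ ?_)
    · exact orderOf_dvd_of_pow_eq_one (congrArg Prod.fst h7)
    · rw [← card_perm_five]; exact orderOf_dvd_natCard x.1
  set T₂ := T.map (MonoidHom.snd _ _) with hT₂
  have hTp : T = (⊥ : Subgroup (Equiv.Perm (Fin 5))).prod T₂ := by
    ext x
    constructor
    · intro hx
      exact ⟨mem_bot.2 (h2 x hx), ⟨x, hx, rfl⟩⟩
    · rintro ⟨hx1, y, hy, e⟩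
      rwa [show x = y from Prod.ext ((mem_bot.1 hx1).trans (h2 y hy).symm) e.symm]
  have hc : Nat.card T₂ = 7 := by
    have e := congrArg (fun U : Subgroup X5 => Nat.card U) hTp
    simp only [h, Nat.card_congr (Subgroup.prodEquiv ⊥ T₂).toEquiv, Nat.card_prod, Subgroup.card_bot,
      one_mul] at e
    exact e.symm
  obtain ⟨hd, hmod⟩ := index_normalizer_cases (m := 24) card_sl_three (by norm_num) T₂ hc
  have hle : (⊤ : Subgroup (Equiv.Perm (Fin 5))).prod (normalizer (T₂ : Set _)) ≤
      normalizer (T : Set X5) := by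
    rintro x ⟨-, hx2⟩
    refine mem_normalizer_iff.2 fun y => ?_
    rw [hTp, Subgroup.mem_prod, Subgroup.mem_prod, mem_bot, mem_bot]
    refine and_congr ?_ (mem_normalizer_iff.1 hx2 y.2)
    exact conj_eq_one_iff.symm
  refine le_trans ?_ (Subgroup.card_le_of_le hle)
  rw [Nat.card_congr (Subgroup.prodEquiv _ _).toEquiv, Nat.card_prod, Subgroup.card_top, card_perm_five]
  have h3 := (normalizer (T₂ : Set (Matrix.SpecialLinearGroup (Fin 3) (ZMod 2)))).card_mul_index
  rw [card_sl_three] at h3
  have hi : (normalizer (T₂ : Set (Matrix.SpecialLinearGroup (Fin 3) (ZMod 2)))).index ≤ 8 := by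
    have hle24 := Nat.le_of_dvd (by norm_num) hd
    revert hd hmod hle24
    generalize (normalizer (T₂ : Set (Matrix.SpecialLinearGroup (Fin 3) (ZMod 2)))).index = i
    intro hd hmod hle24
    interval_cases i <;> omega
  have h4 : Nat.card ↥(normalizer (T₂ : Set (Matrix.SpecialLinearGroup (Fin 3) (ZMod 2)))) * 8 ≥ 168 :=
    h3 ▸ Nat.mul_le_mul le_rfl hi
  omega

/-- The action of the normaliser of an elementary group of order eight. -/
theorem exists_normHom {G : Type*} [Group G] [Finite G] (Z : Subgroup G)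
    (hel : Cfsg.IsElementaryAbelian 2 Z) (h8 : Nat.card Z = 8) :
    ∃ ψ : ↥(normalizer (Z : Set G)) →* Matrix.SpecialLinearGroup (Fin 3) (ZMod 2),
      ψ.ker = (centralizer (Z : Set G)).subgroupOf (normalizer (Z : Set G)) := by
  classical
  letI : CommGroup ↥Z := { (inferInstance : Group ↥Z) with mul_comm := hel.1.is_comm.comm }
  let V := Additive ↥Z
  letI : Module (ZMod 2) V := AddCommGroup.zmodModule fun v => by
    show Additive.ofMul ((Additive.toMul v) ^ 2) = Additive.ofMul 1
    exact congrArg Additive.ofMul (Subtype.ext (hel.2 _ (Additive.toMul v).2))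
  haveI : Module.Finite (ZMod 2) V := Module.Finite.of_finite
  have hfr : Module.finrank (ZMod 2) V = 3 := by
    have h1 := Module.natCard_eq_pow_finrank (K := ZMod 2) (V := V)
    rw [Nat.card_zmod, show Nat.card V = 8 from (Nat.card_congr Additive.toMul).trans h8] at h1
    exact (Nat.pow_right_injective (le_refl 2) (show 2 ^ 3 = 2 ^ Module.finrank (ZMod 2) V from h1)).symm
  let b : Module.Basis (Fin 3) (ZMod 2) V := Module.finBasisOfFinrankEq (ZMod 2) V hfr
  let act : ↥(normalizer (Z : Set G)) → V →ₗ[ZMod 2] V := fun n =>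
    AddMonoidHom.toZModLinearMap 2 (AddMonoidHom.mk'
      (fun v => Additive.ofMul (⟨n * (Additive.toMul v : ↥Z) * (n : G)⁻¹,
        (mem_normalizer_iff.1 n.2 _).1 (Additive.toMul v).2⟩ : ↥Z))
      (fun v w => congrArg Additive.ofMul (Subtype.ext (by
        show (n : G) * (((Additive.toMul v : ↥Z) : G) * (Additive.toMul w : ↥Z)) * (n : G)⁻¹ =
          ((n : G) * (Additive.toMul v : ↥Z) * (n : G)⁻¹) * ((n : G) * (Additive.toMul w : ↥Z) * (n : G)⁻¹)
        group))))
  have hact : ∀ (n : ↥(normalizer (Z : Set G))) (v : V),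
      ((Additive.toMul (act n v) : ↥Z) : G) = n * (Additive.toMul v : ↥Z) * (n : G)⁻¹ := fun n v => rfl
  have hone : act 1 = LinearMap.id := LinearMap.ext fun v =>
    Additive.toMul.injective (Subtype.ext (by rw [hact]; simp))
  have hmul : ∀ n k, act (n * k) = (act n).comp (act k) := fun n k => LinearMap.ext fun v =>
    Additive.toMul.injective (Subtype.ext (by rw [LinearMap.comp_apply, hact, hact, hact]; simp [mul_assoc]))
  let A : ↥(normalizer (Z : Set G)) → Matrix (Fin 3) (Fin 3) (ZMod 2) := fun n => LinearMap.toMatrix b b (act n)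
  have hA : ∀ n k, A (n * k) = A n * A k := fun n k => by
    show LinearMap.toMatrix b b (act (n * k)) = _
    rw [hmul, LinearMap.toMatrix_comp b b b]
  have hdet : ∀ n, (A n).det = 1 := fun n => by
    have h1 : (A n).det * (A n⁻¹).det = 1 := by
      rw [← Matrix.det_mul, ← hA, mul_inv_cancel]
      show (LinearMap.toMatrix b b (act 1)).det = 1
      rw [hone, LinearMap.toMatrix_id, Matrix.det_one]
    exact (show ∀ x y : ZMod 2, x * y = 1 → x = 1 by decide) _ _ h1
  refine ⟨MonoidHom.mk' (fun n => ⟨A n, hdet n⟩) fun n k => Subtype.ext (hA n k), ?_⟩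
  ext n
  rw [MonoidHom.mem_ker, mem_subgroupOf, mem_centralizer_iff]
  constructor
  · intro e z hz
    have h1 : act n = LinearMap.id := (LinearMap.toMatrix b b).injective (by
      rw [LinearMap.toMatrix_id]; exact congrArg Subtype.val e)
    have h2 := hact n (Additive.ofMul ⟨z, hz⟩)
    rw [h1] at h2
    exact (eq_mul_inv_iff_mul_eq.1 h2)
  · intro hc
    refine Subtype.ext ?_
    show LinearMap.toMatrix b b (act n) = 1
    rw [← LinearMap.toMatrix_id b]
    congr 1
    refine LinearMap.ext fun v => Additive.toMul.injective (Subtype.ext ?_)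
    rw [hact, ← hc _ (Additive.toMul v).2, mul_inv_cancel_right]
    rfl

/-- A criterion for special groups. -/
theorem isSpecial_of {L : Type*} [Group L] [Finite L] (hp : IsPGroup 2 L)
    (h1 : commutator L = Subgroup.center L) (hsq : ∀ x : L, x * x ∈ Subgroup.center L) :
    Cfsg.IsSpecial 2 L := by
  haveI : Fact (Nat.Prime 2) := ⟨Nat.prime_two⟩
  haveI := hp.isNilpotent
  exact ⟨hp, le_antisymm (MaxClass.mem_frattini_sq hp _ hsq) (h1 ▸ Core.commutator_le_frattini), h1⟩

end Cfsg.Agent.J4Type.Trio
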