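import Cfsg.Agent.J4Type.Trio.Defs
import Cfsg.Agent.J4Type.Trio.Generic

/-!
# The subgroup of order `2 ^ 15` is special
-/

set_option autoImplicit false
set_option maxRecDepth 20000

open Cfsg Subgroup

namespace Cfsg.Agent.J4Type.Trio

open LargeExtra (oc)
open V11 Rep Orbits
open scoped commutatorElement

variable {G : Type*} [Group G] [Finite G] {z : G} {P : Subgroup G} {V : Type*} [AddCommGroup V]
  {π : ↥(oc z) →* Multiplicative V} {ρ : ↥(mSub z P) →* Equiv.Perm V} {q : V → ZMod 2} {B : List V}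
  {S : Sys z P π ρ q B} {F : Frame S} (T : Gens F)

theorem qm_fix_z {a c : ℕ} (ha : a < 64) (hc : c ∈ zT) : app (qm a) c = c := by
  have h := z_fix
  simp only [Bool.and_eq_true, List.all_eq_true] at h
  have h0 := q_ok
  simp only [Bool.and_eq_true, eqM_iff] at h0
  refine bitInd 6 (P := fun a => app (qm a) c = c) ?_ (fun x y hx hy ex ey => ?_) (fun i hi => ?_) a ha
  · rw [h0.1.1.1, beq_nat (all_range id11_ok (zT_lt hc))]
  · rw [← Gens.q_mul hx hy, show Orbits.comp (qm x) (qm y) = List.map (app (qm x)) (qm y) from rfl, app_app, ey, ex]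
  · rw [eqM_iff.1 (all_range h0.1.1.2 hi)]
    exact beq_nat (h.1 i (List.mem_range.2 hi) c hc)

theorem zg_center {g : ↥T.l0} (hg : (g : G) ∈ zg F) : g ∈ center ↥T.l0 := by
  obtain ⟨c, hc, e⟩ := hg
  refine Subgroup.mem_center_iff.2 fun k => Subtype.ext ?_
  obtain ⟨x, hx, -, a, ha, ek⟩ := T.mem_l0.1 k.2
  show (k : G) * g = g * k
  rw [← e, ← ek, mul_assoc, T.qe_conj ha (zT_lt hc), qm_fix_z ha hc, ← mul_assoc, (F.phi_comm x c).eq, mul_assoc]

theorem center_mem {g : ↥T.l0} (hg : g ∈ center ↥T.l0) : (g : G) ∈ zg F := by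
  obtain ⟨x, hx, ex, a, ha, e⟩ := T.mem_l0.1 g.2
  have hc : ∀ {k : G}, k ∈ T.l0 → k * g = g * k := fun {k} hk =>
    congrArg Subtype.val (Subgroup.mem_center_iff.1 hg ⟨k, hk⟩)
  have hlow : ∀ y < 2048, cls y = 0 → app (qm a) y = y := fun y hy ey => by
    have h := hc (show F.phi y ∈ T.l0 from ⟨y, hy, ey, 0, by norm_num, by rw [T.qe_zero, mul_one]⟩)
    rw [← e] at h
    have i := (T.qe_is ha).conj hy
    refine F.phi_inj (app_lt' (T.qe_is ha).2.1 y) hy ?_
    rw [← i]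
    calc T.qe a * F.phi y * (T.qe a)⁻¹ = (F.phi x)⁻¹ * (F.phi x * T.qe a * F.phi y) * (T.qe a)⁻¹ := by group
      _ = (F.phi x)⁻¹ * (F.phi y * (F.phi x * T.qe a)) * (T.qe a)⁻¹ := by rw [h]
      _ = (F.phi x)⁻¹ * (F.phi y * F.phi x) := by group
      _ = _ := by rw [(F.phi_comm y x).eq, inv_mul_cancel_left]
  have h0 := q_ok
  simp only [Bool.and_eq_true, eqM_iff] at h0
  have hid : ∀ y < 2048, app (qm 0) y = y := fun y hy => by rw [h0.1.1.1, beq_nat (all_range id11_ok hy)]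
  have ha0 : a = 0 := Gens.qm_inj ha (by norm_num) fun y hy ey => by rw [hlow y hy ey, hid y hy]
  subst ha0
  rw [T.qe_zero, mul_one] at e
  refine ⟨x, ?_, e⟩
  have hfix : ∀ k < 6, app (gm k) x = x := fun k hk => by
    have hp : 2 ^ k < 64 := Nat.pow_lt_pow_right (a := 2) (by norm_num) hk
    have h := hc (show T.qe (2 ^ k) ∈ T.l0 from ⟨0, by norm_num, rfl, 2 ^ k, hp, by rw [F.phi_zero, one_mul]⟩)
    rw [← e, T.qe_conj hp hx] at h
    have h' := F.phi_inj (app_lt' (T.qe_is hp).2.1 x) hx (mul_right_cancel h)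
    rwa [eqM_iff.1 (all_range h0.1.1.2 hk)] at h'
  have h := all_range q_fixed hx
  simp only [Bool.or_eq_true, Bool.not_eq_true', List.elem_eq_contains, List.contains_iff_mem] at h
  rcases h with (h | h) | h
  · rw [ex, Nat.beq_refl] at h; exact Bool.noConfusion h
  · exact h
  · obtain ⟨k, hk, hk'⟩ := List.any_eq_true.1 h
    rw [hfix k (List.mem_range.1 hk), Nat.beq_refl] at hk'
    exact Bool.noConfusion hk'

theorem center_l0 : (center ↥T.l0).map T.l0.subtype = zg F := by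
  refine le_antisymm ?_ fun g hg => ?_
  · rintro _ ⟨g, hg, rfl⟩; exact center_mem T hg
  · obtain ⟨c, hc, e⟩ := hg
    have hm : g ∈ T.l0 := ⟨c, zT_lt hc, beq_nat (List.all_eq_true.1 z_class c hc), 0, by norm_num,
      by rw [T.qe_zero, mul_one, e]⟩
    exact ⟨⟨g, hm⟩, zg_center T (g := ⟨g, hm⟩) ⟨c, hc, e⟩, rfl⟩

theorem special : Cfsg.IsSpecial 2 ↥T.l0 := by
  have hp : IsPGroup 2 ↥T.l0 := IsPGroup.of_card T.card_l0
  refine isSpecial_of hp (le_antisymm ?_ ?_) fun g => ?_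
  · rw [commutator_eq_closure, closure_le]
    rintro _ ⟨g, h, rfl⟩
    refine zg_center T ?_
    obtain ⟨x, hx, ex, a, ha, e1⟩ := T.mem_l0.1 g.2
    obtain ⟨y, hy, ey, b, hb, e2⟩ := T.mem_l0.1 h.2
    rw [commutatorElement_def]
    show (g : G) * h * (g : G)⁻¹ * (h : G)⁻¹ ∈ zg F
    rw [← e1, ← e2]
    set m := F.phi (x ^^^ app (qm a) y ^^^ (y ^^^ app (qm b) x))
    have key : F.phi x * T.qe a * (F.phi y * T.qe b) = m * (F.phi y * T.qe b * (F.phi x * T.qe a)) := by
      rw [T.prod_eq ha hb hy, T.prod_eq hb ha hx, ← mul_assoc, ← F.phi_xor, Nat.xor_comm b a,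
        Nat.xor_assoc (x ^^^ app (qm a) y), Nat.xor_self, Nat.xor_zero]
    rw [key]
    refine ⟨x ^^^ app (qm a) y ^^^ (y ^^^ app (qm b) x), ?_, ?_⟩
    on_goal 1 => rw [show x ^^^ app (qm a) y ^^^ (y ^^^ app (qm b) x) = app (qm a) y ^^^ y ^^^ (app (qm b) x ^^^ x) by ac_rfl]
    · exact zT_xor (cls_qm ha hy ey).2 (cls_qm hb hx ex).2
    · show m = _; group
  · intro g hg
    have key : ∀ t < 3, ∀ hm : F.phi ([64, 5, 27].getD t 0) ∈ T.l0, (⟨_, hm⟩ : ↥T.l0) ∈ commutator ↥T.l0 := by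
      intro t ht hm
      obtain ⟨k, hk, hh⟩ := List.any_eq_true.1 (all_range q_span ht)
      obtain ⟨i, hi, hi'⟩ := List.any_eq_true.1 hh
      have hk := List.mem_range.1 hk
      have hi := List.mem_range.1 hi
      simp only [Bool.and_eq_true, Bool.not_eq_true'] at hi'
      obtain ⟨⟨h8, h10⟩, he⟩ := hi'
      have hlt : 2 ^ i < 2048 := lt_of_lt_of_le (Nat.pow_lt_pow_right (by norm_num) hi) (le_refl (2 ^ 11))
      have hcls : cls (2 ^ i) = 0 := by
        interval_cases i <;> first | rfl | exact absurd h8 (by decide) | exact absurd h10 (by decide)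
      have hp : 2 ^ k < 64 := Nat.pow_lt_pow_right (a := 2) (by norm_num) hk
      have hu : F.phi (2 ^ i) ∈ T.l0 := ⟨_, hlt, hcls, 0, by norm_num, by rw [T.qe_zero, mul_one]⟩
      have hq : T.qe (2 ^ k) ∈ T.l0 := ⟨0, by norm_num, rfl, 2 ^ k, hp, by rw [F.phi_zero, one_mul]⟩
      have e : (⟨_, hm⟩ : ↥T.l0) = ⁅(⟨_, hq⟩ : ↥T.l0), ⟨_, hu⟩⁆ := by
        refine Subtype.ext ?_
        rw [commutatorElement_def]
        show F.phi ([64, 5, 27].getD t 0) = T.qe (2 ^ k) * F.phi (2 ^ i) * (T.qe (2 ^ k))⁻¹ * (F.phi (2 ^ i))⁻¹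
        have h0 := q_ok
        simp only [Bool.and_eq_true] at h0
        rw [inv_eq_of_mul_eq_one_right (F.phi_sq (2 ^ i)), (T.qe_is hp).conj hlt, ← F.phi_xor,
          eqM_iff.1 (all_range h0.1.1.2 hk)]
        exact congrArg F.phi (beq_nat he).symm
      rw [e]
      exact commutator_mem_commutator (mem_top _) (mem_top _)
    obtain ⟨c, hc, e⟩ := center_mem T hg
    have hm : ∀ d ∈ zT, F.phi d ∈ T.l0 := fun d hd =>
      ⟨d, zT_lt hd, beq_nat (List.all_eq_true.1 z_class d hd), 0, by norm_num, by rw [T.qe_zero, mul_one]⟩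
    have hg' : g = ⟨F.phi c, hm c hc⟩ := Subtype.ext e.symm
    rw [hg']
    have hmul : ∀ a b (ha : a ∈ zT) (hb : b ∈ zT) (hab : a ^^^ b ∈ zT), (⟨_, hm a ha⟩ : ↥T.l0) ∈ commutator ↥T.l0 →
        (⟨_, hm b hb⟩ : ↥T.l0) ∈ commutator ↥T.l0 → (⟨_, hm _ hab⟩ : ↥T.l0) ∈ commutator ↥T.l0 :=
      fun a b ha hb hab h1 h2 => by
        have := mul_mem h1 h2
        convert this using 1
        exact Subtype.ext (F.phi_xor a b)
    have h64 := key 0 (by norm_num) (hm 64 (by decide))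
    have h5 := key 1 (by norm_num) (hm 5 (by decide))
    have h27 := key 2 (by norm_num) (hm 27 (by decide))
    have h30 := hmul 5 27 (by decide) (by decide) (by decide) h5 h27
    simp only [zT, List.mem_cons, List.not_mem_nil, or_false] at hc
    rcases hc with rfl | rfl | rfl | rfl | rfl | rfl | rfl | rfl
    · rw [show (⟨F.phi 0, hm 0 (by decide)⟩ : ↥T.l0) = 1 from Subtype.ext F.phi_zero]; exact one_mem _
    · exact h5
    · exact h27
    · exact h30
    · exact h64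
    · exact hmul 64 5 (by decide) (by decide) (by decide) h64 h5
    · exact hmul 64 27 (by decide) (by decide) (by decide) h64 h27
    · exact hmul 64 30 (by decide) (by decide) (by decide) h64 h30
  · refine zg_center T ?_
    obtain ⟨x, hx, ex, a, ha, e⟩ := T.mem_l0.1 g.2
    show (g : G) * g ∈ zg F
    rw [← e, T.prod_eq ha ha hx, Nat.xor_self, T.qe_zero, mul_one]
    refine ⟨_, ?_, rfl⟩
    rw [Nat.xor_comm]
    exact (cls_qm ha hx ex).2

end Cfsg.Agent.J4Type.Trio
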