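import Cfsg.Agent.J4Type.Trio.NoCompl
import Cfsg.Agent.J4Type.Trio.Special

/-!
# The normaliser of the special subgroup of order `2 ^ 15`
-/

set_option autoImplicit false
set_option maxRecDepth 20000

open Cfsg Subgroup

namespace Cfsg.Agent.J4Type.Trio

open LargeExtra (oc oc_le)
open V11 Rep Orbits
open scoped Pointwise

universe u

variable {G : Type u} [Group G] [Finite G] {z : G} {P : Subgroup G} {V : Type*} [AddCommGroup V]
  {π : ↥(oc z) →* Multiplicative V} {ρ : ↥(mSub z P) →* Equiv.Perm V} {q : V → ZMod 2} {B : List V}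
  {S : Sys z P π ρ q B} {F : Frame S} (T : Gens F)

theorem zg_le_l0 : zg F ≤ T.l0 := by
  rintro _ ⟨a, ha, rfl⟩
  exact ⟨a, zT_lt ha, beq_nat (List.all_eq_true.1 z_class a ha), 0, by norm_num, by rw [T.qe_zero, mul_one]⟩

namespace Gens

theorem normalizer_eq : normalizer (T.l0 : Set G) = mg F := by
  refine le_antisymm (fun n hn => ?_) T.mg_le_normalizer
  refine mem_normalizer_fintype (S := (zg F : Set G)) fun a ha => ?_
  rw [SetLike.mem_coe, ← center_l0 T] at ha ⊢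
  obtain ⟨⟨c, hc⟩, hcc, rfl⟩ := ha
  have hcn : n * c * n⁻¹ ∈ T.l0 := (mem_normalizer_iff.1 hn c).1 hc
  refine ⟨⟨n * c * n⁻¹, hcn⟩, ?_, rfl⟩
  rw [SetLike.mem_coe, Subgroup.mem_center_iff]
  rintro ⟨b, hb⟩
  have hb' : n⁻¹ * b * n ∈ T.l0 := by
    have := (mem_normalizer_iff.1 (inv_mem hn) b).1 hb
    rwa [inv_inv] at this
  have h : n⁻¹ * b * n * c = c * (n⁻¹ * b * n) :=
    congrArg Subtype.val (Subgroup.mem_center_iff.1 hcc ⟨_, hb'⟩)
  refine Subtype.ext ?_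
  show b * (n * c * n⁻¹) = n * c * n⁻¹ * b
  calc b * (n * c * n⁻¹) = n * (n⁻¹ * b * n * c) * n⁻¹ := by group
    _ = n * (c * (n⁻¹ * b * n)) * n⁻¹ := by rw [h]
    _ = _ := by group

theorem exists_five (T : Gens F) : ∃ Q : Subgroup G, Nat.card Q = 5 ∧ Q ≤ cz F := by
  have := Fact.mk (by norm_num : Nat.Prime 5)
  obtain ⟨c, hc⟩ := exists_prime_orderOf_dvd_card' (G := ↥(cz F)) 5 (by rw [card_cz]; norm_num)
  refine ⟨zpowers (c : G), by rw [Nat.card_zpowers, orderOf_coe, hc], zpowers_le.2 c.2⟩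

include T in
/-- A bound on the normaliser of a subgroup of prime order inside the local subgroup. -/
theorem local_bound {Q : Subgroup G} (hQ : Q ≤ mg F) {p : ℕ} (hp : p.Prime) (hp2 : p ≠ 2)
    (hQc : Nat.card Q = p) (hsq : ¬ p ^ 2 ∣ Nat.card G) {n k : ℕ}
    (hn : ∀ U : Subgroup X5, Nat.card U = p → n ≤ Nat.card (normalizer (U : Set X5)))
    {C : Subgroup G} (hCl : C ≤ T.l0) (hCQ : C ≤ centralizer (Q : Set G)) (hC : Nat.card C = k)
    (htot : Nat.card ↥(normalizer (Q : Set G)) ≤ n * k) :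
    normalizer (Q : Set G) ≤ mg F := by
  have := Fact.mk hp
  obtain ⟨Ψ, hsurj, hker, -⟩ := T.exists_quot
  set Q' := Q.subgroupOf (mg F) with hQ'
  have hc' : Nat.card Q' = p := by rw [Nat.card_congr (subgroupOfEquivOfLe hQ).toEquiv, hQc]
  have hkc : Nat.card Ψ.ker = 2 ^ 15 := by
    rw [hker, Nat.card_congr (subgroupOfEquivOfLe T.l0_le_mg).toEquiv, T.card_l0]
  have hcop : ¬ p ∣ Nat.card Ψ.ker := fun h =>
    hp2 ((Nat.prime_dvd_prime_iff_eq hp Nat.prime_two).1 (hp.dvd_of_dvd_pow (hkc ▸ h)))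
  have himg : Nat.card ↥(Q'.map Ψ) = p := by
    refine ((Nat.dvd_prime hp).1 (hc' ▸ Subgroup.card_map_dvd Q' Ψ)).resolve_left fun h1 => hcop ?_
    have hle : Q' ≤ Ψ.ker := (map_eq_bot_iff Q').1 (eq_bot_of_card_eq _ h1)
    exact hc' ▸ card_dvd_of_le hle
  have hb := normalizer_bound Ψ hsurj Q' hc' (fun h => hsq (h.trans (mg F).card_subgroup_dvd_card)) hcop
  have hk : k ≤ Nat.card ↥(Ψ.ker ⊓ centralizer (Q' : Set ↥(mg F))) := by
    rw [← hC, ← Nat.card_congr (subgroupOfEquivOfLe (hCl.trans T.l0_le_mg)).toEquiv]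
    refine Subgroup.card_le_of_le fun c hc => ⟨hker.ge (show (c : G) ∈ T.l0 from hCl hc), ?_⟩
    exact mem_centralizer_iff.2 fun a ha =>
      Subtype.ext (mem_centralizer_iff.1 (hCQ hc) (a : G) ha)
  have hle : (normalizer (Q' : Set ↥(mg F))).map (mg F).subtype ≤ normalizer (Q : Set G) := by
    rintro _ ⟨m, hm, rfl⟩
    refine mem_normalizer_fintype (S := (Q : Set G)) fun a ha => ?_
    exact (mem_normalizer_iff.1 hm ⟨a, hQ ha⟩).1 ha
  have htot' : Nat.card ↥(normalizer (Q : Set G)) ≤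
      Nat.card ↥((normalizer (Q' : Set ↥(mg F))).map (mg F).subtype) := by
    rw [card_map_of_injective (subtype_injective _)]
    exact htot.trans ((Nat.mul_le_mul (hn _ himg) hk).trans hb)
  rw [← eq_of_le_of_card_ge hle htot']
  exact map_subtype_le _

include T in
theorem exists_seven_H : ∃ S₀ : Subgroup G, Nat.card S₀ = 7 ∧ S₀ ≤ centralizer ({z} : Set G) := by
  have := Fact.mk (by norm_num : Nat.Prime 7)
  have h := S.M.card
  have hd : 7 ∣ Nat.card ↥((cSub z P).subgroupOf (mSub z P)) := by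
    refine dvd_trans ?_ (Subgroup.card_map_dvd ((cSub z P).subgroupOf (mSub z P)) ρ)
    rw [show ((cSub z P).subgroupOf (mSub z P)).map ρ = gammaZero ρ from rfl, h]
    norm_num
  rw [Nat.card_congr (subgroupOfEquivOfLe (cSub_le_mSub z P)).toEquiv] at hd
  obtain ⟨c, hc⟩ := exists_prime_orderOf_dvd_card' (G := ↥(cSub z P)) 7 hd
  exact ⟨zpowers (c : G), by rw [Nat.card_zpowers, orderOf_coe, hc], zpowers_le.2 c.2.1⟩

/-- A subgroup of prime order dividing exactly is a Sylow subgroup. -/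
theorem sylow_of_card {H : Type*} [Group H] [Finite H] {p : ℕ} [Fact p.Prime] (Q : Subgroup H)
    (hQ : Nat.card Q = p) (h2 : ¬ p ^ 2 ∣ Nat.card H) : ∃ R : Sylow p H, (R : Subgroup H) = Q := by
  obtain ⟨R, hR⟩ := (IsPGroup.of_card (n := 1) (by rw [pow_one]; exact hQ) : IsPGroup p ↥Q).exists_le_sylow
  refine ⟨R, (eq_of_le_of_card_ge hR ?_).symm⟩
  obtain ⟨k, hk⟩ := IsPGroup.iff_card.1 R.isPGroup'
  have hk1 : k ≤ 1 := by
    by_contra hcon
    exact h2 ((pow_dvd_pow p (by omega : 2 ≤ k)).trans (hk ▸ (R : Subgroup H).card_subgroup_dvd_card))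
  rw [hk, hQ]
  calc p ^ k ≤ p ^ 1 := Nat.pow_le_pow_right (Fact.out : p.Prime).pos hk1
    _ = p := pow_one p

/-- **All the properties.** -/
theorem main (T : Gens F)
    (h5 : ∀ Q : Subgroup G, Nat.card Q = 5 → Q ≤ centralizer ({z} : Set G) → ¬ 25 ∣ Nat.card G ∧
      Nat.card ↥(normalizer (Q : Set G)) = 2 ^ 8 * 3 * 5 * 7)
    (h7 : ∀ S₀ : Subgroup G, Nat.card S₀ = 7 → S₀ ≤ centralizer ({z} : Set G) → ¬ 49 ∣ Nat.card G ∧
      (∃ I : Subgroup G, I ≤ centralizer (S₀ : Set G) ∧ Nonempty (↥I ≃* Equiv.Perm (Fin 5))) ∧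
      Nat.card ↥(normalizer (S₀ : Set G)) = 2 ^ 3 * 3 ^ 2 * 5 * 7) :
    ∃ L : Subgroup G, Cfsg.IsSpecial 2 ↥L ∧ Nat.card ↥L = 2 ^ 15 ∧ Nat.card ↥(Subgroup.center ↥L) = 8 ∧
    Nonempty (↥(Subgroup.normalizer (L : Set G)) ⧸ L.subgroupOf (Subgroup.normalizer (L : Set G)) ≃*
      Equiv.Perm (Fin 5) × Matrix.SpecialLinearGroup (Fin 3) (ZMod 2)) ∧
    (∀ K : Subgroup ↥(Subgroup.normalizer (L : Set G)),
      ¬ (L.subgroupOf (Subgroup.normalizer (L : Set G))).IsComplement' K) ∧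
    (∃ K₁ : Subgroup G, K₁ ≤ Subgroup.normalizer (L : Set G) ∧ Nonempty (↥K₁ ≃* Equiv.Perm (Fin 5))) ∧
    (∃ K₂ : Subgroup G, K₂ ≤ Subgroup.normalizer (L : Set G) ∧
      Nonempty (↥K₂ ≃* Matrix.SpecialLinearGroup (Fin 3) (ZMod 2))) ∧
    (∃ Q : Sylow 5 G, Subgroup.normalizer ((Q : Subgroup G) : Set G) ≤ Subgroup.normalizer (L : Set G)) ∧
    (∃ S : Sylow 7 G, Subgroup.normalizer ((S : Subgroup G) : Set G) ≤ Subgroup.normalizer (L : Set G)) := by
  have hN := T.normalizer_eq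
  obtain ⟨Ψ, hsurj, hker, -⟩ := T.exists_quot
  refine ⟨T.l0, special T, T.card_l0, ?_, ?_, ?_, ?_⟩
  · have h := card_map_of_injective (K := center ↥T.l0) (subtype_injective T.l0)
    rw [center_l0 T, card_zg] at h
    exact h.symm
  · let f : ↥(normalizer (T.l0 : Set G)) →* X5 := Ψ.comp (inclusion hN.le)
    have hf : Function.Surjective f := fun x => by
      obtain ⟨m, rfl⟩ := hsurj x
      exact ⟨⟨m, hN.ge m.2⟩, rfl⟩
    have hk : f.ker = T.l0.subgroupOf (normalizer (T.l0 : Set G)) := by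
      ext m
      show inclusion hN.le m ∈ Ψ.ker ↔ _
      rw [hker]; rfl
    exact ⟨(QuotientGroup.quotientMulEquivOfEq hk.symm).trans (QuotientGroup.quotientKerEquivOfSurjective f hf)⟩
  · intro K hK
    refine T.no_compl (K := K.map (normalizer (T.l0 : Set G)).subtype) ((map_subtype_le K).trans hN.le) ?_ ?_
    · rw [eq_bot_iff]
      rintro _ ⟨⟨k, hk, rfl⟩, hl⟩
      have := hK.disjoint.le_bot (show k ∈ T.l0.subgroupOf _ ⊓ K from ⟨hl, hk⟩)
      rw [mem_bot] at this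
      rw [this]; rfl
    · intro m hm
      obtain ⟨⟨⟨k, hk⟩, ⟨l, hl⟩⟩, e, -⟩ := hK.symm.existsUnique ⟨m, hN.ge hm⟩
      exact ⟨_, ⟨k, hk, rfl⟩, (l : G), hl, (congrArg Subtype.val e).symm⟩
  -- elements of order seven
  have := Fact.mk (by norm_num : Nat.Prime 7)
  obtain ⟨S₀, hS₀, hS₀z⟩ := T.exists_seven_H
  obtain ⟨h49, ⟨I, hI, ⟨eI⟩⟩, hNS₀⟩ := h7 S₀ hS₀ hS₀z
  have hc7 : Nat.card ↥(zpowers (T.g 6)) = 7 := by
    rw [Nat.card_zpowers]
    exact orderOf_eq_prime (T.seven (e := 0) (by norm_num)).1 (T.seven (e := 0) (by norm_num)).2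
  have h7' : ¬ 7 ^ 2 ∣ Nat.card G := by norm_num; exact h49
  obtain ⟨R₀, hR₀⟩ := sylow_of_card S₀ hS₀ h7'
  obtain ⟨R, hR⟩ := sylow_of_card (zpowers (T.g 6)) hc7 h7'
  obtain ⟨g, hg⟩ := MulAction.exists_smul_eq G R₀ R
  have hmap : S₀.map (cj g) = zpowers (T.g 6) := by
    rw [← hR, ← hg, Sylow.coe_subgroup_smul, hR₀]; rfl
  have hNS : normalizer ((zpowers (T.g 6) : Subgroup G) : Set G) =
      (normalizer (S₀ : Set G)).map (cj g) := by
    rw [← hmap]; exact (map_equiv_normalizer_eq S₀ (MulAut.conj g)).symm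
  have hN7 : normalizer ((zpowers (T.g 6) : Subgroup G) : Set G) ≤ mg F := by
    refine T.local_bound (zpowers_le.2 (T.g_mem_mg (by norm_num))) (by norm_num : Nat.Prime 7) (by norm_num) hc7 h7'
      (n := 2520) (k := 1) (fun U h => norm_seven U h) (C := ⊥) bot_le bot_le Subgroup.card_bot ?_
    rw [hNS, card_map_of_injective (cj_inj g), hNS₀]
    norm_num
  refine ⟨?_, ?_, ?_, ⟨R, by rw [hR, hN]; exact hN7⟩⟩
  · refine ⟨I.map (cj g), ?_, ⟨((I.equivMapOfInjective _ (cj_inj g)).symm).trans eI⟩⟩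
    rw [hN]
    refine le_trans ?_ hN7
    rw [hNS]
    exact Subgroup.map_mono (hI.trans (centralizer_le_normalizer _))
  · obtain ⟨U, hU, e⟩ := exists_linear T
    exact ⟨U, hN ▸ hU, e⟩
  · have := Fact.mk (by norm_num : Nat.Prime 5)
    obtain ⟨Q, hQ, hQc⟩ := exists_five T
    obtain ⟨h25, hNQ⟩ := h5 Q hQ (hQc.trans (cz_le F))
    have h5' : ¬ 5 ^ 2 ∣ Nat.card G := by norm_num; exact h25
    obtain ⟨R', hR'⟩ := sylow_of_card Q hQ h5'
    refine ⟨R', ?_⟩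
    rw [hR', hN]
    refine T.local_bound (hQc.trans cz_le_mg) (by norm_num : Nat.Prime 5) (by norm_num) hQ h5'
      (n := 3360) (k := 8) (fun U h => norm_five U h) (C := zg F) (zg_le_l0 T)
      (fun c hc => mem_centralizer_iff.2 fun a ha => ((mem_centralizer_iff.1 (hQc ha)) c hc).symm) (card_zg F) ?_
    rw [hNQ]; norm_num

end Gens

end Cfsg.Agent.J4Type.Trio
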