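import Cfsg.Agent.J4Type.V11.Defs
import Cfsg.Agent.Compute.GolayPerm
import Cfsg.Agent.J4Type.Trio.Data

/-!
# Checks on the stabiliser of a trio
-/

set_option autoImplicit false
set_option Elab.async false
set_option maxRecDepth 100000
set_option maxHeartbeats 1000000

namespace Cfsg.Agent.J4Type.Trio

open Rep Orbits V11

/-- The identity on eleven bits. -/
def id11 : List ℕ := [1, 2, 4, 8, 16, 32, 64, 128, 256, 512, 1024]

/-- The code of a pair of points. -/
noncomputable def pw (i j : ℕ) : ℕ :=
  app Li (Nat.xor (LargeFischer.vp24 (Fin.ofNat 24 i)) (LargeFischer.vp24 (Fin.ofNat 24 j)))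

/-- The matrix is that of the permutation. -/
noncomputable def okPair (g : ℕ) (M : List ℕ) : Bool :=
  (List.range 24).all fun i => (List.range 24).all fun j =>
    Nat.beq (app M (pw i j)) (pw (Compute.rep24.act g i) (Compute.rep24.act g j))

/-- The list of a generator. -/
noncomputable def gm (k : ℕ) : List ℕ := genM.getD k id11

/-- The list of an element of the kernel. -/
noncomputable def qm (a : ℕ) : List ℕ := qT.getD a id11

/-- The class modulo the subgroup of index four. -/
noncomputable def cls (v : ℕ) : ℕ :=
  Nat.add (Nat.mod (Nat.shiftRight v 8) 2) (Nat.mul 2 (Nat.mod (Nat.shiftRight v 10) 2))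

/-- The eight codes of the centre. -/
def zT : List ℕ := [0, 5, 27, 30, 64, 69, 91, 94]

theorem gens_ok : ((List.range 10).all fun k => Compute.inM24B (genP.getD k 0) &&
    okPair (genP.getD k 0) (gm k) && Nat.beq (gm k).length 11 && (gm k).all (fun a => Nat.blt a 2048)) = true := by
  decide +kernel

theorem pairs_ok : ((List.range 11).all fun k => Nat.beq
    ((pairT.getD k []).foldr (fun p r => Nat.xor (pw p.1 p.2) r) 0) (2 ^ k) &&
    (pairT.getD k []).all fun p => Nat.blt p.1 24 && Nat.blt p.2 24) = true := by decide +kernel

theorem q_ok : (eqM (qm 0) id11 && (List.range 6).all (fun k => eqM (qm (2 ^ k)) (gm k)) &&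
    qT.all (fun M => M.all fun a => Nat.blt a 2048) && (List.range 64).all fun a => (List.range 64).all fun b =>
      eqM (comp (qm a) (qm b)) (qm (Nat.xor a b))) = true := by decide +kernel

theorem id11_ok : ((List.range 2048).all fun v => Nat.beq (app id11 v) v) = true := by decide +kernel

theorem lm_li : ((List.range 2048).all fun v => Nat.beq (app Lm (app Li v)) v && Nat.blt (app Li v) 2048) = true := by
  decide +kernel

theorem z_lt : (zT.all fun a => Nat.blt a 2048) = true := by decide +kernel

theorem cls_zero : ((List.range 2048).all fun v => Nat.beq (Nat.land v 767) v == Nat.beq (cls v) 0) = true := by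
  decide +kernel

theorem cls_count : Nat.beq ((List.range 2048).filter fun v => Nat.beq (cls v) 0).length 512 = true := by
  decide +kernel

theorem cls_inv : ((List.range 10).all fun k => (List.range 2048).all fun v =>
    (!Nat.beq (cls v) 0 || Nat.beq (cls (app (gm k) v)) 0) &&
    (!Nat.blt k 8 || Nat.beq (cls (Nat.xor (app (gm k) v) v)) 0)) = true := by decide +kernel

theorem kerE_count : Nat.beq ((List.range 4096).filter fun r =>
    !Orbits.bv r (wv 5) && !Orbits.bv r (wv 27)).length 1024 = true := by decide +kernel

theorem six_ok : (eqM (sixT.getD 0 []) id11 && eqM (sixT.getD 1 []) (gm 8) &&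
    eqM (sixT.getD 2 []) (comp (gm 8) (gm 8)) && eqM (sixT.getD 3 []) (gm 9) &&
    eqM (sixT.getD 4 []) (comp (gm 9) (gm 8)) &&
    eqM (sixT.getD 5 []) (comp (gm 9) (comp (gm 8) (gm 8)))) = true := by decide +kernel

theorem lin_ok : (Nat.beq linT.length 168 && eqM (linT.getD 0 ([], 0, 0)).1 id11 &&
    (List.range 168).all fun i => Nat.beq i 0 || (Nat.blt (linT.getD i ([], 0, 0)).2.1 i &&
      Nat.blt (linT.getD i ([], 0, 0)).2.2 2 &&
      eqM (linT.getD i ([], 0, 0)).1
        (comp (gm (Nat.add 6 (linT.getD i ([], 0, 0)).2.2)) (linT.getD (linT.getD i ([], 0, 0)).2.1 ([], 0, 0)).1))) =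
    true := by decide +kernel

theorem lin_closed : ((List.range 168).all fun i => (List.range 2).all fun g => (List.range 168).any fun j =>
    eqM (comp (gm (Nat.add 6 g)) (linT.getD i ([], 0, 0)).1) (linT.getD j ([], 0, 0)).1) = true := by
  decide +kernel

theorem lin_distinct : distinctB eqM (linT.map fun e => [app e.1 64, app e.1 5, app e.1 27]) = true := by
  decide +kernel

theorem z_ok : (zT.all fun a => zT.all fun b => (List.elem (Nat.xor a b) zT)) = true := by decide +kernel

theorem z_gens : ((List.range 10).all fun k => zT.all fun a => List.elem (app (gm k) a) zT) = true := by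
  decide +kernel

theorem z_fix : ((List.range 6).all (fun k => zT.all fun a => Nat.beq (app (gm k) a) a) &&
    zT.all fun a => Nat.beq (app (gm 8) a) a && Nat.beq (app (gm 9) a) a) = true := by decide +kernel

theorem z_class : (zT.all fun a => Nat.beq (cls a) 0) = true := by decide +kernel

theorem six_class : distinctB eqM (sixT.map fun M => [cls (app M 256), cls (app M 1024)]) = true := by
  decide +kernel

theorem six_move : ((List.range 6).all fun a => Nat.beq a 0 || [256, 1024].any fun v =>
    !Nat.beq (cls (Nat.xor (app (sixT.getD a []) v) v)) 0) = true := by decide +kernel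

theorem x_move : ((List.range 2048).all fun v => Nat.beq (cls v) 0 ||
    (!Nat.beq (cls (app (gm 8) v)) 0 && !Nat.beq (cls (app (gm 8) v)) (cls v))) = true := by decide +kernel

theorem pre_ok : ((List.range 11).all fun k => Nat.beq k 8 || Nat.beq k 10 ||
    (Nat.blt (preT.getD k 0) 2048 &&
      Nat.beq (Nat.xor (preT.getD k 0) (app (gm 6) (preT.getD k 0))) (2 ^ k))) = true := by decide +kernel

theorem qc_ok : ((List.range 6).all fun k => Nat.blt (qcT.getD k 0) 64 &&
    eqM (comp (qm (qcT.getD k 0)) (gm 6)) (comp (gm k) (comp (gm 6) (qm (qcT.getD k 0))))) = true := by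
  decide +kernel

/-- The kernel acts faithfully on the subgroup of index four, and centralises only the centre in it. -/
theorem q_faithful : ((List.range 64).all fun a => Nat.beq a 0 || (List.range 11).any fun i =>
    !Nat.beq i 8 && !Nat.beq i 10 && !Nat.beq (app (qm a) (2 ^ i)) (2 ^ i)) = true := by decide +kernel

theorem q_fixed : ((List.range 2048).all fun v => !Nat.beq (cls v) 0 || List.elem v zT ||
    (List.range 6).any fun k => !Nat.beq (app (gm k) v) v) = true := by decide +kernel

theorem q_comm : ((List.range 6).all fun k => (List.range 11).all fun i => Nat.beq i 8 || Nat.beq i 10 ||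
    List.elem (Nat.xor (app (gm k) (2 ^ i)) (2 ^ i)) zT) = true := by decide +kernel

theorem q_span : ((List.range 3).all fun t => (List.range 6).any fun k => (List.range 11).any fun i =>
    !Nat.beq i 8 && !Nat.beq i 10 &&
      Nat.beq (Nat.xor (app (gm k) (2 ^ i)) (2 ^ i)) ([64, 5, 27].getD t 0)) = true := by decide +kernel

theorem s_free : ((List.range 64).all fun a => Nat.beq a 0 ||
    !eqM (comp (qm a) (gm 6)) (comp (gm 6) (qm a))) = true := by decide +kernel

/-- The listed vectors are all outside fixed vectors of the lifts. -/
theorem fix_ok : ((List.range 64).all fun a => (List.range 2048).all fun v => Nat.beq (cls v) 0 ||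
    ((!Nat.beq (app (qm a) (app (gm 6) v)) v || List.elem v (fixA.getD a [])) &&
      (!Nat.beq (app (qm a) (app (gm 7) v)) v || List.elem v (fixB.getD a [])))) = true := by decide +kernel

theorem fix_one : ((List.range 64).all fun a => (List.range 64).all fun b =>
    (fixA.getD a []).all fun v => (fixA.getD a []).all fun w =>
      !List.elem v (fixB.getD b []) || !List.elem w (fixB.getD b []) || Nat.beq (cls v) (cls w)) = true := by
  decide +kernel

/-- A word fixing the point and moving the fixed space. -/
def wOut : List ℕ := [2, 2, 2, 1, 1, 1, 1, 0, 2, 1, 1, 0, 0]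

theorem out_ok : (Nat.beq (app (code wOut) (wv 5)) (wv 5) && Nat.beq (app (code wOut) (wv 27)) (wv 27) &&
    !inW (app (code wOut) (wv 1))) = true := by decide +kernel

theorem base_ok : (bit Short.orbBits (wv 5) && Nat.beq (app Wm (wv 5)) (wv 27)) = true := by decide +kernel

theorem outer_move : (stabOut.all fun M => !Nat.beq (app M (app Wm Short.v0)) (app Wm Short.v0)) = true := by
  decide +kernel

end Cfsg.Agent.J4Type.Trio
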