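import Cfsg.Agent.J4Type.Trio.Checks

/-!
# Checks on the products in the stabiliser of a trio
-/

set_option autoImplicit false
set_option Elab.async false
set_option maxRecDepth 100000
set_option maxHeartbeats 1000000

namespace Cfsg.Agent.J4Type.Trio

open Rep Orbits V11

theorem k_swap : ((List.range 64).all fun b => (List.range 6).all fun a => (List.range 64).any fun c =>
    eqM (comp (qm b) (sixT.getD a [])) (comp (sixT.getD a []) (qm c))) = true := by decide +kernel

theorem k_six : ((List.range 6).all fun a => (List.range 6).all fun b => (List.range 6).any fun c =>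
    eqM (comp (sixT.getD a []) (sixT.getD b [])) (sixT.getD c [])) = true := by decide +kernel

theorem k_class : ((List.range 6).all fun a => (List.range 64).all fun b => [256, 1024].all fun v =>
    Nat.beq (cls (app (sixT.getD a []) (app (qm b) v))) (cls (app (sixT.getD a []) v)) &&
    Nat.beq (cls (Nat.xor (app (sixT.getD a []) (app (qm b) v)) v))
      (cls (Nat.xor (app (sixT.getD a []) v) v))) = true := by decide +kernel

theorem q_comm_all : ((List.range 64).all fun a => (List.range 2048).all fun v =>
    !Nat.beq (cls v) 0 || List.elem (Nat.xor (app (qm a) v) v) zT) = true := by decide +kernel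

theorem x_span : ((List.range 2048).all fun w => Nat.beq (cls w) 0 || [256, 1024].all fun c =>
    Nat.beq (cls c) 0 || Nat.beq (cls (Nat.xor c w)) 0 || Nat.beq (cls (Nat.xor c (app (gm 8) w))) 0 ||
      Nat.beq (cls (Nat.xor c (Nat.xor w (app (gm 8) w)))) 0) = true := by decide +kernel

theorem v_split : ((List.range 2048).all fun v => Nat.beq v
    (Nat.xor (Nat.land v 767) (Nat.xor (Nat.land v 256) (Nat.land v 1024))) &&
    (Nat.beq (Nat.land v 256) 0 || Nat.beq (Nat.land v 256) 256) &&
    (Nat.beq (Nat.land v 1024) 0 || Nat.beq (Nat.land v 1024) 1024) &&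
    Nat.beq (cls (Nat.land v 767)) 0) = true := by decide +kernel

theorem seven_ok : ((List.range 2).all fun e =>
    eqM ((List.range 7).foldr (fun _ r => comp (gm (Nat.add 6 e)) r) id11) id11 &&
    !eqM (gm (Nat.add 6 e)) id11) = true := by decide +kernel

theorem order_ok : (eqM (comp (gm 8) (comp (gm 8) (gm 8))) id11 && eqM (comp (gm 9) (gm 9)) id11 &&
    !eqM (gm 8) id11) = true := by decide +kernel

end Cfsg.Agent.J4Type.Trio
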