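import Cfsg.Agent.J4Type.Trio.Lift
import Cfsg.Agent.J4Type.Orbits.Stab

/-!
# The centraliser of the centre
-/

set_option autoImplicit false

open Cfsg Subgroup MulAction

namespace Cfsg.Agent.J4Type.Trio

open LargeExtra (oc oc_le oc_conj_mem)
open V11 Rep Orbits

variable {G : Type*} [Group G] [Finite G] {z : G} {P : Subgroup G} {V : Type*} [AddCommGroup V]
  {π : ↥(oc z) →* Multiplicative V} {ρ : ↥(mSub z P) →* Equiv.Perm V} {q : V → ZMod 2} {B : List V}
  {S : Sys z P π ρ q B} (F : Frame S)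

theorem zT_lt {a : ℕ} (ha : a ∈ zT) : a < 2048 := blt_nat (List.all_eq_true.1 z_lt a ha)

theorem zT_xor {a b : ℕ} (ha : a ∈ zT) (hb : b ∈ zT) : a ^^^ b ∈ zT := by
  have h := List.all_eq_true.1 (List.all_eq_true.1 z_ok a ha) b hb
  simpa using h

/-- The elementary group of order eight. -/
def zg (F : Frame S) : Subgroup G where
  carrier := {g | ∃ a ∈ zT, F.phi a = g}
  one_mem' := ⟨0, by decide, F.phi_zero⟩
  mul_mem' := by
    rintro _ _ ⟨a, ha, rfl⟩ ⟨b, hb, rfl⟩
    exact ⟨a ^^^ b, zT_xor ha hb, F.phi_xor a b⟩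
  inv_mem' := by
    rintro _ ⟨a, ha, rfl⟩
    exact ⟨a, ha, (inv_eq_of_mul_eq_one_right (F.phi_sq a)).symm⟩

theorem zg_le : zg F ≤ F.grp := by rintro _ ⟨a, ha, rfl⟩; exact F.phi_mem (zT_lt ha)

theorem phi_mem_zg {a : ℕ} (ha : a ∈ zT) : F.phi a ∈ zg F := ⟨a, ha, rfl⟩

theorem z_mem_zg : z ∈ zg F := ⟨64, by decide, F.phi_z⟩

theorem zg_elem : Cfsg.IsElementaryAbelian 2 (zg F) := by
  refine ⟨⟨⟨fun a b => Subtype.ext (F.grp_comm (zg_le F a.2) (zg_le F b.2)).eq⟩⟩, fun a ha => ?_⟩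
  rw [pow_two]; exact F.grp_sq (zg_le F ha)

theorem card_zg : Nat.card (zg F) = 8 := by
  have hb : Function.Bijective fun i : Fin zT.length => (⟨F.phi zT[i], phi_mem_zg F (List.getElem_mem i.2)⟩ : zg F) := by
    refine ⟨fun i j h => ?_, ?_⟩
    · have e := F.phi_inj (zT_lt (List.getElem_mem i.2)) (zT_lt (List.getElem_mem j.2)) (congrArg Subtype.val h)
      exact Fin.ext ((List.Nodup.getElem_inj_iff (by decide)).1 e)
    · rintro ⟨_, a, ha, rfl⟩
      obtain ⟨i, hi, rfl⟩ := List.getElem_of_mem ha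
      exact ⟨⟨i, hi⟩, rfl⟩
  rw [← Nat.card_congr (Equiv.ofBijective _ hb), Nat.card_fin]
  rfl

/-- Its centraliser. -/
def cz (F : Frame S) : Subgroup G := centralizer (zg F : Set G)

theorem mem_cz {g : G} (hz : Commute g z) (h5 : Commute g (F.phi 5)) (h27 : Commute g (F.phi 27)) :
    g ∈ cz F := by
  refine mem_centralizer_iff.2 ?_
  rintro _ ⟨a, ha, rfl⟩
  have h64 : Commute g (F.phi 64) := by rw [F.phi_z]; exact hz
  have hm : ∀ a b, Commute g (F.phi a) → Commute g (F.phi b) → Commute g (F.phi (a ^^^ b)) := fun a b ha hb => by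
    rw [F.phi_xor]; exact ha.mul_right hb
  have h0 : Commute g (F.phi 0) := by rw [F.phi_zero]; exact Commute.one_right g
  have h30 := hm 5 27 h5 h27
  have h69 := hm 64 5 h64 h5
  have h91 := hm 64 27 h64 h27
  have h94 := hm 64 30 h64 h30
  simp only [zT, List.mem_cons, List.not_mem_nil, or_false] at ha
  rcases ha with rfl | rfl | rfl | rfl | rfl | rfl | rfl | rfl
  exacts [h0.eq.symm, h5.eq.symm, h27.eq.symm, h30.eq.symm, h64.eq.symm, h69.eq.symm, h91.eq.symm, h94.eq.symm]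

theorem cz_commute {g : G} (hg : g ∈ cz F) {a : ℕ} (ha : a ∈ zT) : Commute g (F.phi a) :=
  (mem_centralizer_iff.1 hg _ (phi_mem_zg F ha)).symm

theorem cz_le : cz F ≤ centralizer ({z} : Set G) := fun g hg =>
  mem_centralizer_singleton_iff.2 ((mem_centralizer_iff.1 hg z (z_mem_zg F)).symm)

theorem vec_five : vec π (F.phi 5) = Rep.lin B (wv 5) ∧ vec π (F.phi 27) = Rep.lin B (wv 27) :=
  ⟨F.vec_phi (k := 5) (by norm_num), F.vec_phi (k := 27) (by norm_num)⟩

theorem wm_five : app Wm (wv 5) = wv 27 ∧ bit Short.orbBits (wv 5) = true := by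
  have h := base_ok
  rw [Bool.and_eq_true] at h
  exact ⟨beq_nat h.2, h.1⟩

/-- The linear maps fixing the point. -/
noncomputable def ptStab (B : List V) (Γ₀ : Subgroup (Equiv.Perm V)) : Subgroup (Equiv.Perm V) :=
  Γ₀ ⊓ stabilizer (Equiv.Perm V) (Rep.lin B (wv 5))

include F in
theorem card_ptStab : Nat.card (ptStab B (gammaZero ρ)) = 1920 := by
  classical
  set Γ₀ := gammaZero ρ with hΓ
  set v := Rep.lin B (wv 5) with hv
  obtain ⟨δ, hδ, hd⟩ := Orbits.short.reach S.M wm_five.2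
  have horb : Nat.card (orbit ↥Γ₀ v) = 693 := by
    have hset : orbit ↥Γ₀ v =
        ↑((((List.range 4096).filter (bit Short.orbBits)).toFinset).image (Rep.lin B)) := by
      ext w
      simp only [Finset.coe_image, Set.mem_image, Finset.mem_coe, List.mem_toFinset, List.mem_filter,
        List.mem_range]
      constructor
      · rintro ⟨⟨γ, hγ⟩, rfl⟩
        obtain ⟨s, hs, hb, e⟩ := Orbits.short.invariant S.M (S.M.le hγ) (wv_lt 5) wm_five.2
        exact ⟨s, ⟨hs, hb⟩, e.symm⟩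
      · rintro ⟨s, ⟨-, hb⟩, rfl⟩
        obtain ⟨ε, hε, e⟩ := Orbits.short.reach S.M hb
        refine ⟨⟨ε * δ⁻¹, mul_mem hε (inv_mem hδ)⟩, ?_⟩
        show (ε * δ⁻¹) v = _
        rw [hv, ← hd, Equiv.Perm.mul_apply, Equiv.Perm.inv_def, Equiv.symm_apply_apply, e]
    rw [hset, Nat.card_coe_set_eq, Set.ncard_coe_finset, Finset.card_image_of_injOn ?_,
      List.toFinset_card_of_nodup ((List.nodup_range).filter _), Orbits.short.count]
    intro a ha b hb e
    simp only [Finset.mem_coe, List.mem_toFinset, List.mem_filter, List.mem_range] at ha hb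
    exact S.M.lin_inj ha.1 hb.1 e
  have h := Nat.card_congr (orbitProdStabilizerEquivGroup ↥Γ₀ v)
  rw [Nat.card_prod, horb, S.M.card] at h
  let e : ↥(ptStab B Γ₀) ≃ ↥(stabilizer ↥Γ₀ v) :=
    { toFun := fun g => ⟨⟨g.1, g.2.1⟩, g.2.2⟩
      invFun := fun g => ⟨g.1.1, g.1.2, g.2⟩
      left_inv := fun g => rfl
      right_inv := fun g => rfl }
  rw [Nat.card_congr e]
  omega

include F in
/-- A map of the whole group fixing both points is inner. -/
theorem inner_of_fix {γ : Equiv.Perm V} (hγ : γ ∈ ρ.range) (h5 : γ (Rep.lin B (wv 5)) = Rep.lin B (wv 5))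
    (h27 : γ (Rep.lin B (wv 27)) = Rep.lin B (wv 27)) : γ ∈ gammaZero ρ := by
  by_contra hout
  obtain ⟨δ, hδ, hd⟩ := Orbits.short.reach S.M wm_five.2
  have hδr : δ ∈ ρ.range := S.M.le hδ
  have hω := F.p_act
  have hW : δ (Rep.lin B (app Wm Short.v0)) = Rep.lin B (wv 27) := by
    rw [← hω, ← Equiv.Perm.mul_apply, S.M.commute_W hω hδ, Equiv.Perm.mul_apply, hd, hω, wm_five.1]
  have hout' : δ⁻¹ * γ * δ ∉ gammaZero ρ := fun h => hout (by
    have := mul_mem (mul_mem hδ h) (inv_mem hδ)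
    rwa [show δ * (δ⁻¹ * γ * δ) * δ⁻¹ = γ by group] at this)
  have hfix : (δ⁻¹ * γ * δ) (Rep.lin B Short.v0) = Rep.lin B Short.v0 := by
    rw [Equiv.Perm.mul_apply, Equiv.Perm.mul_apply, hd, h5, Equiv.Perm.inv_def, Equiv.symm_apply_eq, hd]
  obtain ⟨M, hM, hact⟩ := Orbits.short.stab_outer S.M (mul_mem (mul_mem (inv_mem hδr) hγ) hδr) hout' hfix
  have h1 : Rep.lin B (app M (app Wm Short.v0)) = Rep.lin B (app Wm Short.v0) := by
    rw [← hact, Equiv.Perm.mul_apply, Equiv.Perm.mul_apply, hW, h27, Equiv.Perm.inv_def, Equiv.symm_apply_eq, hW]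
  have h2 := List.all_eq_true.1 outer_move M hM
  have hg : goodM M = true := good_stabOut hM
  rw [S.M.lin_inj (app_lt_of_good hg _) (app_lt (n := 12) Rep.Wm_lt _) h1, Nat.beq_refl] at h2
  exact Bool.noConfusion h2

/-- The linear part on the centraliser. -/
noncomputable def czLin (F : Frame S) : ↥(cz F) →* Equiv.Perm V :=
  S.D.linHom.comp (inclusion (cz_le F))

theorem czLin_range : (czLin F).range = ptStab B (gammaZero ρ) := by
  obtain ⟨h5, h27⟩ := vec_five F
  ext γ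
  constructor
  · rintro ⟨⟨g, hg⟩, rfl⟩
    have hgH := cz_le F hg
    have hfix : ∀ {a r : ℕ}, a ∈ zT → a < 128 → vec π (F.phi a) = Rep.lin B r →
        J4Type.lin ρ g (Rep.lin B r) = Rep.lin B r := fun {a r} ha hlt hr => by
      rw [← hr, ← S.D.vec_conj_lin hgH (F.phi_oc hlt), (cz_commute F hg ha).eq, mul_inv_cancel_right]
    exact ⟨inner_of_fix F (S.D.lin_mem hgH) (hfix (by decide) (by norm_num) h5)
      (hfix (by decide) (by norm_num) h27), hfix (by decide) (by norm_num) h5⟩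
  · rintro ⟨hγ, hfix⟩
    have hfix : γ (Rep.lin B (wv 5)) = Rep.lin B (wv 5) := hfix
    have hfix' : γ (Rep.lin B (wv 27)) = Rep.lin B (wv 27) := by
      rw [← wm_five.1, ← F.p_act, ← Equiv.Perm.mul_apply, S.M.commute_W F.p_act hγ, Equiv.Perm.mul_apply, hfix]
    obtain ⟨n, hn, rfl⟩ := S.lift_zero hγ
    have hnm := cSub_le_mSub z P hn
    have hc5 := S.D.commute_of_fix hnm (F.phi_oc (k := 5) (by norm_num)) (by rw [h5]; exact hfix) (Or.inl hn)
    have hc27 := S.D.commute_of_fix hnm (F.phi_oc (k := 27) (by norm_num)) (by rw [h27]; exact hfix') (Or.inl hn)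
    refine ⟨⟨n, mem_cz F (S.D.comm_z hnm.1) hc5 hc27⟩, ?_⟩
    exact (S.D.lin_mSub hnm).1

theorem card_czE : Nat.card ↥(oc z ⊓ cz F) = 2 ^ 11 := by
  classical
  obtain ⟨h5, h27⟩ := vec_five F
  let f : ↥(oc z ⊓ cz F) →* Multiplicative V := π.comp (inclusion inf_le_left)
  have hker : Nat.card f.ker = 2 := by
    let e : ↥f.ker ≃ Bool :=
      Equiv.ofBijective (fun g => decide ((g : ↥(oc z ⊓ cz F)).1 = z)) ⟨fun a b h => ?_, fun b => ?_⟩
    · rw [Nat.card_congr e, Nat.card_eq_fintype_card, Fintype.card_bool]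
    · have hc : ∀ a : ↥f.ker, (a : ↥(oc z ⊓ cz F)).1 = 1 ∨ (a : ↥(oc z ⊓ cz F)).1 = z := fun a =>
        S.D.mem_zp.1 ((S.D.ker ⟨_, a.1.2.1⟩).1 a.2)
      refine Subtype.ext (Subtype.ext ?_)
      rcases hc a with ha | ha <;> rcases hc b with hb | hb <;> simp only [ha, hb] at h ⊢ <;>
        simp [S.D.z_ne, Ne.symm S.D.z_ne] at h
    · have hz : z ∈ oc z ⊓ cz F := ⟨S.D.z_mem, mem_centralizer_iff.2 fun a ha =>
        (F.grp_comm (zg_le F ha) F.z_mem_grp).eq⟩
      cases b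
      · exact ⟨1, by simp [Ne.symm S.D.z_ne]⟩
      · refine ⟨⟨⟨z, hz⟩, ?_⟩, by simp⟩
        exact (S.D.ker ⟨z, S.D.z_mem⟩).2 (mem_zpowers z)
  set L := (List.range 4096).filter fun r => !Orbits.bv r (wv 5) && !Orbits.bv r (wv 27) with hL
  have hrange : (f.range : Set (Multiplicative V)) =
      ↑((L.toFinset).image fun r => Multiplicative.ofAdd (Rep.lin B r)) := by
    ext v
    simp only [hL, Finset.coe_image, Set.mem_image, Finset.mem_coe, List.mem_toFinset, List.mem_filter,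
      List.mem_range, Bool.and_eq_true, Bool.not_eq_true', SetLike.mem_coe]
    constructor
    · rintro ⟨⟨g, hg, hgc⟩, rfl⟩
      obtain ⟨r, hr, hrv⟩ := S.M.code_cases (vec π g)
      have hb : ∀ {a b : ℕ}, a ∈ zT → a < 128 → b < 4096 → vec π (F.phi a) = Rep.lin B b →
          Orbits.bv r b = false := fun {a b} ha hlt hb hv => by
        have h := S.conj_code hg (F.phi_oc hlt) hr hb hrv.symm hv
        rw [(cz_commute F hgc ha).eq, mul_inv_cancel_right, left_eq_mul] at h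
        cases e : Orbits.bv r b
        · rfl
        · rw [e] at h; exact absurd h S.D.z_ne
      refine ⟨r, ⟨hr, hb (by decide) (by norm_num) (wv_lt 5) h5, hb (by decide) (by norm_num) (wv_lt 27) h27⟩, ?_⟩
      rw [hrv, vec_of_mem hg]
      rfl
    · rintro ⟨r, ⟨hr, hb5, hb27⟩, rfl⟩
      obtain ⟨g, hg, hgv⟩ := S.exists_code r
      have hc : ∀ {a b : ℕ}, a < 128 → b < 4096 → vec π (F.phi a) = Rep.lin B b → Orbits.bv r b = false →
          Commute g (F.phi a) := fun {a b} hlt hb hv hbv => by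
        have h := S.conj_code hg (F.phi_oc hlt) hr hb hgv hv
        rw [hbv] at h
        exact mul_inv_eq_iff_eq_mul.1 (h.trans (mul_one _))
      refine ⟨⟨g, hg, mem_cz F (S.D.comm_z (oc_le z hg)) (hc (by norm_num) (wv_lt 5) h5 hb5)
        (hc (by norm_num) (wv_lt 27) h27 hb27)⟩, ?_⟩
      rw [← hgv, vec_of_mem hg]
      rfl
  have hr : Nat.card f.range = 1024 := by
    rw [← SetLike.coe_sort_coe, Nat.card_coe_set_eq, hrange, Set.ncard_coe_finset, Finset.card_image_of_injOn,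
      List.toFinset_card_of_nodup ((List.nodup_range).filter _), beq_nat kerE_count]
    intro a ha b hb e
    simp only [hL, Finset.mem_coe, List.mem_toFinset, List.mem_filter, List.mem_range] at ha hb
    exact S.M.lin_inj ha.1 hb.1 (Multiplicative.ofAdd.injective e)
  have h := f.ker.card_mul_index
  rw [index_ker, hker, hr] at h
  exact h.symm

/-- **The order of the centraliser.** -/
theorem card_cz : Nat.card (cz F) = 2 ^ 18 * 15 := by
  have hker : Nat.card (czLin F).ker = 2 ^ 11 := by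
    rw [← card_czE F]
    refine Nat.card_congr
      { toFun := fun g => ⟨g.1.1, (S.D.lin_eq_one (cz_le F g.1.2)).1 g.2, g.1.2⟩
        invFun := fun g => ⟨⟨g.1, g.2.2⟩, (S.D.lin_eq_one (cz_le F g.2.2)).2 g.2.1⟩
        left_inv := fun g => rfl
        right_inv := fun g => rfl }
  have h := (czLin F).ker.card_mul_index
  rw [index_ker, hker, czLin_range, card_ptStab F] at h
  rw [← h]; norm_num

/-- The centraliser moves the elementary group. -/
theorem exists_cz_not_nrm : ∃ g ∈ cz F, g ∉ F.nrm := by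
  obtain ⟨h5, h27⟩ := vec_five F
  have h := out_ok
  simp only [Bool.and_eq_true, Bool.not_eq_true'] at h
  obtain ⟨⟨e5, e27⟩, e1⟩ := h
  obtain ⟨n, hn, hact⟩ := S.lift_word wOut
  have hnm := cSub_le_mSub z P hn
  have hc5 := S.D.commute_of_fix hnm (F.phi_oc (k := 5) (by norm_num))
    (by rw [h5, hact, beq_nat e5]) (Or.inl hn)
  have hc27 := S.D.commute_of_fix hnm (F.phi_oc (k := 27) (by norm_num))
    (by rw [h27, hact, beq_nat e27]) (Or.inl hn)
  refine ⟨n, mem_cz F (S.D.comm_z hnm.1) hc5 hc27, fun hN => ?_⟩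
  obtain ⟨y, hy, hye⟩ := F.exists_img hN (x := 1) (by norm_num)
  have hoc : F.phi y ∈ oc z := hye ▸ oc_conj_mem hnm.1 (F.phi_oc (k := 1) (by norm_num))
  have hlt := (F.phi_oc_iff hy).1 hoc
  have hv : vec π (n * F.phi 1 * n⁻¹) = Rep.lin B (app (code wOut) (wv 1)) :=
    S.vec_conj_code hnm hact (F.phi_oc (by norm_num)) (F.vec_phi (k := 1) (by norm_num))
  rw [← hye, F.vec_phi hlt] at hv
  have he := S.lin_lt_inj (wv_lt _) (app_lt_of_good (good_code _) _) hv
  rw [← he, inW_iff.2 (by rw [wc_wv' (Nat.mod_lt _ (by norm_num))])] at e1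
  exact Bool.noConfusion e1

end Cfsg.Agent.J4Type.Trio
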