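import Cfsg.Agent.J4Type.Trio.Count
import Cfsg.Agent.J4Type.Trio.ChecksGrp

/-!
# The subgroups belonging to a trio
-/

set_option autoImplicit false

open Cfsg Subgroup

namespace Cfsg.Agent.J4Type.Trio

open LargeExtra (oc)
open V11 Rep Orbits

variable {G : Type*} [Group G] [Finite G] {z : G} {P : Subgroup G} {V : Type*} [AddCommGroup V]
  {π : ↥(oc z) →* Multiplicative V} {ρ : ↥(mSub z P) →* Equiv.Perm V} {q : V → ZMod 2} {B : List V}
  {S : Sys z P π ρ q B} {F : Frame S}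

theorem cls_iff {v : ℕ} (hv : v < 2048) : cls v = 0 ↔ v &&& 767 = v := by
  have h := all_range cls_zero hv
  simp only [beq_iff_eq] at h
  constructor <;> intro e
  · exact beq_nat (h.trans (by rw [e]; rfl))
  · exact beq_nat (h.symm.trans (by rw [show Nat.land v 767 = v from e, Nat.beq_refl]))

theorem cls_xor_zero {a b : ℕ} (ha : a < 2048) (hb : b < 2048) (ea : cls a = 0) (eb : cls b = 0) :
    cls (a ^^^ b) = 0 := by
  rw [cls_iff (xor_lt' ha hb), Nat.and_xor_distrib_right, (cls_iff ha).1 ea, (cls_iff hb).1 eb]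

theorem cls_qm {a v : ℕ} (ha : a < 64) (hv : v < 2048) (e : cls v = 0) :
    cls (app (qm a) v) = 0 ∧ app (qm a) v ^^^ v ∈ zT := by
  have h := all_range (all_range q_comm_all ha) hv
  rw [Bool.or_eq_true, Bool.not_eq_true', List.elem_eq_contains, List.contains_iff_mem] at h
  have hz : app (qm a) v ^^^ v ∈ zT := h.resolve_left fun h' => by
    rw [e, Nat.beq_refl] at h'; exact Bool.noConfusion h'
  refine ⟨?_, hz⟩
  have e' := beq_nat (List.all_eq_true.1 z_class _ hz)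
  have := cls_xor_zero (zT_lt hz) hv e' e
  rwa [Nat.xor_assoc, Nat.xor_self, Nat.xor_zero] at this

namespace Gens

variable (T : Gens F)

/-- The subgroup of index four of the elementary group. -/
def v9 (F : Frame S) : Subgroup G where
  carrier := {g | ∃ x < 2048, cls x = 0 ∧ F.phi x = g}
  one_mem' := ⟨0, by norm_num, rfl, F.phi_zero⟩
  mul_mem' := by
    rintro _ _ ⟨a, ha, ea, rfl⟩ ⟨b, hb, eb, rfl⟩
    exact ⟨a ^^^ b, xor_lt' ha hb, cls_xor_zero ha hb ea eb, F.phi_xor a b⟩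
  inv_mem' := by
    rintro _ ⟨a, ha, ea, rfl⟩
    exact ⟨a, ha, ea, (inv_eq_of_mul_eq_one_right (F.phi_sq a)).symm⟩

theorem qe_conj {a x : ℕ} (ha : a < 64) (hx : x < 2048) :
    T.qe a * F.phi x = F.phi (app (qm a) x) * T.qe a :=
  mul_inv_eq_iff_eq_mul.1 ((T.qe_is ha).conj hx)

theorem prod_eq {a b x y : ℕ} (ha : a < 64) (hb : b < 64) (hy : y < 2048) :
    F.phi x * T.qe a * (F.phi y * T.qe b) = F.phi (x ^^^ app (qm a) y) * T.qe (a ^^^ b) := by
  rw [F.phi_xor, ← T.qe_mul ha hb,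
    show F.phi x * T.qe a * (F.phi y * T.qe b) = F.phi x * (T.qe a * F.phi y) * T.qe b by group,
    T.qe_conj ha hy]
  group

theorem qe_inv {a : ℕ} (ha : a < 64) : (T.qe a)⁻¹ = T.qe a :=
  inv_eq_of_mul_eq_one_right (by rw [T.qe_mul ha ha, Nat.xor_self, T.qe_zero])

/-- The subgroup of order `2 ^ 15`. -/
noncomputable def l0 (T : Gens F) : Subgroup G where
  carrier := {g | ∃ x < 2048, cls x = 0 ∧ ∃ a < 64, F.phi x * T.qe a = g}
  one_mem' := ⟨0, by norm_num, rfl, 0, by norm_num, by rw [F.phi_zero, T.qe_zero, one_mul]⟩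
  mul_mem' := by
    rintro _ _ ⟨x, hx, ex, a, ha, rfl⟩ ⟨y, hy, ey, b, hb, rfl⟩
    exact ⟨x ^^^ app (qm a) y, xor_lt' hx (app_lt' (T.qe_is ha).2.1 y),
      cls_xor_zero hx (app_lt' (T.qe_is ha).2.1 y) ex (cls_qm ha hy ey).1, a ^^^ b,
      Nat.xor_lt_two_pow (n := 6) ha hb, (T.prod_eq ha hb hy).symm⟩
  inv_mem' := by
    rintro _ ⟨x, hx, ex, a, ha, rfl⟩
    refine ⟨app (qm a) x, app_lt' (T.qe_is ha).2.1 x, (cls_qm ha hx ex).1, a, ha, ?_⟩
    rw [← T.qe_conj ha hx, mul_inv_rev, T.qe_inv ha, inv_eq_of_mul_eq_one_right (F.phi_sq x)]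

theorem mem_l0 {g : G} : g ∈ T.l0 ↔ ∃ x < 2048, cls x = 0 ∧ ∃ a < 64, F.phi x * T.qe a = g := Iff.rfl

theorem qm_inj {a b : ℕ} (ha : a < 64) (hb : b < 64)
    (h : ∀ x < 2048, cls x = 0 → app (qm a) x = app (qm b) x) : a = b := by
  by_contra hne
  have hab := Nat.xor_lt_two_pow (n := 6) ha hb
  have := all_range q_faithful hab
  rw [Bool.or_eq_true] at this
  rcases this with e | e
  · exact hne (Nat.xor_eq_zero_iff.1 (beq_nat e))
  · obtain ⟨i, hi, hc⟩ := List.any_eq_true.1 e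
    have hi' := List.mem_range.1 hi
    simp only [Bool.and_eq_true, Bool.not_eq_true'] at hc
    have hlt : 2 ^ i < 2048 := Nat.pow_lt_pow_right (by norm_num) hi' |>.trans_le (le_refl (2 ^ 11))
    have hcls : cls (2 ^ i) = 0 := by
      rcases (show i = 0 ∨ i = 1 ∨ i = 2 ∨ i = 3 ∨ i = 4 ∨ i = 5 ∨ i = 6 ∨ i = 7 ∨ i = 9 by
        have h8 : i ≠ 8 := fun e => by rw [e] at hc; simp at hc
        have h10 : i ≠ 10 := fun e => by rw [e] at hc; simp at hc
        omega) with rfl | rfl | rfl | rfl | rfl | rfl | rfl | rfl | rfl <;> rfl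
    have key : app (qm (a ^^^ b)) (2 ^ i) = 2 ^ i := by
      rw [← Gens.q_mul ha hb, show Orbits.comp (qm a) (qm b) = List.map (app (qm a)) (qm b) from rfl,
        app_app, ← h _ hlt hcls, ← app_app, show List.map (app (qm a)) (qm a) = Orbits.comp (qm a) (qm a) from rfl,
        Gens.q_mul ha ha, Nat.xor_self]
      have h0 := q_ok
      simp only [Bool.and_eq_true, eqM_iff] at h0
      rw [h0.1.1.1, beq_nat (all_range id11_ok hlt)]
    rw [key, Nat.beq_refl] at hc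
    exact Bool.noConfusion hc.2

theorem card_l0 : Nat.card T.l0 = 2 ^ 15 := by
  obtain ⟨L, hL⟩ : ∃ L, L = (List.range 2048).filter fun v => Nat.beq (cls v) 0 := ⟨_, rfl⟩
  have hLm : ∀ i : Fin L.length, L[i] < 2048 ∧ cls L[i] = 0 := fun i => by
    have := List.getElem_mem (l := L) i.2
    obtain ⟨h1, h2⟩ := List.mem_filter.1 (Eq.subst (motive := fun l => L[(i : ℕ)] ∈ l) hL this)
    exact ⟨List.mem_range.1 h1, beq_nat h2⟩
  have hb : Function.Bijective fun p : Fin L.length × Fin 64 =>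
      (⟨F.phi L[p.1] * T.qe p.2, L[p.1], (hLm p.1).1, (hLm p.1).2, p.2, p.2.2, rfl⟩ : T.l0) := by
    refine ⟨?_, ?_⟩
    · rintro ⟨i, a⟩ ⟨j, b⟩ h
      have e : F.phi L[i] * T.qe a = F.phi L[j] * T.qe b := congrArg Subtype.val h
      have hq : T.qe a * (T.qe b)⁻¹ ∈ T.K ⊓ F.grp := by
        refine ⟨T.K.mul_mem (T.qe_is a.2).1 (T.K.inv_mem (T.qe_is b.2).1), (?_ : _ ∈ F.grp)⟩
        have e2 : T.qe a * (T.qe b)⁻¹ = (F.phi L[i])⁻¹ * F.phi L[j] := by
          rw [eq_inv_mul_iff_mul_eq, ← mul_assoc, e, mul_inv_cancel_right]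
        rw [e2]
        exact F.grp.mul_mem (F.grp.inv_mem (F.phi_mem (hLm i).1)) (F.phi_mem (hLm j).1)
      rw [T.comp.inf, mem_bot, mul_inv_eq_one] at hq
      rw [hq] at e
      have hab : a = b := Fin.ext (qm_inj a.2 b.2 fun x hx _ => F.phi_inj (app_lt' (T.qe_is a.2).2.1 x)
        (app_lt' (T.qe_is b.2).2.1 x) (by rw [← (T.qe_is a.2).conj hx, ← (T.qe_is b.2).conj hx, hq]))
      have hij := F.phi_inj (hLm i).1 (hLm j).1 (mul_right_cancel e)
      have hij' : i = j := Fin.ext ((List.Nodup.getElem_inj_iff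
        (hL ▸ (List.nodup_range).filter _)).1 hij)
      rw [hab, hij']
    · rintro ⟨_, x, hx, ex, a, ha, rfl⟩
      have hm : x ∈ L := by rw [hL, List.mem_filter, List.mem_range]; exact ⟨hx, by rw [ex]; rfl⟩
      obtain ⟨i, hi, hix⟩ := List.getElem_of_mem hm
      exact ⟨(⟨i, hi⟩, ⟨a, ha⟩), Subtype.ext (by simp only [Fin.getElem_fin, hix])⟩
  rw [← Nat.card_congr (Equiv.ofBijective _ hb), Nat.card_prod, Nat.card_fin, Nat.card_fin,
    hL, beq_nat cls_count]
  norm_num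

end Gens

end Cfsg.Agent.J4Type.Trio
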