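import Cfsg.Agent.J4Type.V11.Complement
import Cfsg.Agent.J4Type.Trio.Checks

/-!
# Elements of a complement with prescribed coordinates
-/

set_option autoImplicit false

open Cfsg Subgroup

namespace Cfsg.Agent.J4Type.Trio

open LargeExtra (oc oc_le oc_conj_mem)
open V11 Rep Orbits
open scoped Pointwise

variable {G : Type*} [Group G] [Finite G] {z : G} {P : Subgroup G} {V : Type*} [AddCommGroup V]
  {π : ↥(oc z) →* Multiplicative V} {ρ : ↥(mSub z P) →* Equiv.Perm V} {q : V → ZMod 2} {B : List V}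
  {S : Sys z P π ρ q B}

/-- A complement in the normaliser of the elementary group. -/
structure Comp (F : Frame S) (K : Subgroup G) : Prop where
  le : K ≤ F.nrm
  inf : K ⊓ F.grp = ⊥
  sup : K ⊔ F.grp = F.nrm

theorem exists_comp (F : Frame S) (hF : F.Good) : ∃ K, Comp F K := by
  obtain ⟨K, h1, h2, h3, -⟩ := F.exists_split hF
  exact ⟨K, h1, h2, h3⟩

/-- The element of the complement acts by the matrix. -/
def Is (F : Frame S) (K : Subgroup G) (M : List ℕ) (k : G) : Prop :=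
  k ∈ K ∧ (∀ a ∈ M, a < 2048) ∧ ∀ x < 2048, k * F.phi x * k⁻¹ = F.phi (app M x)

theorem app_lt' {M : List ℕ} (h : ∀ a ∈ M, a < 2048) (x : ℕ) : app M x < 2048 := app_lt (n := 11) h x

theorem comp_lt {M N : List ℕ} (hM : ∀ a ∈ M, a < 2048) : ∀ a ∈ comp M N, a < 2048 := by
  intro a ha
  rw [Orbits.comp] at ha
  obtain ⟨b, -, rfl⟩ := List.mem_map.1 ha
  exact app_lt' hM b

variable {F : Frame S} {K : Subgroup G}

theorem Is.conj {M : List ℕ} {k : G} (h : Is F K M k) {x : ℕ} (hx : x < 2048) :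
    k * F.phi x * k⁻¹ = F.phi (app M x) := h.2.2 x hx

theorem Is.commute {M : List ℕ} {k : G} (h : Is F K M k) {x : ℕ} (hx : x < 2048) (e : app M x = x) :
    Commute k (F.phi x) := mul_inv_eq_iff_eq_mul.1 (by rw [h.conj hx, e])

theorem Is.one : Is F K id11 1 := by
  refine ⟨one_mem _, by decide, fun x hx => ?_⟩
  rw [beq_nat (all_range id11_ok hx)]
  group

theorem Is.mul {M N : List ℕ} {a b : G} (ha : Is F K M a) (hb : Is F K N b) :
    Is F K (Orbits.comp M N) (a * b) := by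
  refine ⟨mul_mem ha.1 hb.1, comp_lt ha.2.1, fun x hx => ?_⟩
  rw [show Orbits.comp M N = List.map (app M) N from rfl,
    show app (List.map (app M) N) x = app M (app N x) from app_app M N x]
  calc a * b * F.phi x * (a * b)⁻¹ = a * (b * F.phi x * b⁻¹) * a⁻¹ := by group
    _ = _ := by rw [hb.conj hx, ha.conj (app_lt' hb.2.1 x)]

theorem Is.unique (hK : Comp F K) {M : List ℕ} {a b : G} (ha : Is F K M a) (hb : Is F K M b) : a = b := by
  have hc : a⁻¹ * b ∈ centralizer (F.grp : Set G) := by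
    refine mem_centralizer_iff.2 ?_
    rintro _ ⟨x, hx, rfl⟩
    have e : a * F.phi x * a⁻¹ = b * F.phi x * b⁻¹ := by rw [ha.conj hx, hb.conj hx]
    calc F.phi x * (a⁻¹ * b) = a⁻¹ * (a * F.phi x * a⁻¹) * b := by group
      _ = a⁻¹ * (b * F.phi x * b⁻¹) * b := by rw [e]
      _ = _ := by group
  have h1 : a⁻¹ * b ∈ K ⊓ F.grp := ⟨K.mul_mem (K.inv_mem ha.1) hb.1, F.centralizer_grp hc⟩
  rw [hK.inf, mem_bot, inv_mul_eq_one] at h1
  exact h1

/-- The kernel of the action is the elementary group. -/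
theorem Is.eq_one_of_fix (hK : Comp F K) {M : List ℕ} {a : G} (ha : Is F K M a)
    (h : ∀ x < 2048, app M x = x) : a = 1 := by
  refine Is.unique hK ha ⟨one_mem _, ha.2.1, fun x hx => ?_⟩
  rw [h x hx]; group

theorem xor_lt' {a b : ℕ} (ha : a < 2048) (hb : b < 2048) : a ^^^ b < 2048 :=
  Nat.xor_lt_two_pow (n := 11) ha hb

theorem pn_pt {i : ℕ} (hi : i < 24) :
    LargeFischer.pn (Compute.rep24.pt i) = LargeFischer.vp24 (Fin.ofNat 24 i) := by
  rw [LargeFischer.pn, Compute.ptIdx_rep24 hi]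

theorem vp_lt (i : ℕ) : LargeFischer.vp24 (Fin.ofNat 24 i) < 2048 := by
  rw [← LargeFischer.pn_e24]; exact LargeFischer.pn_lt _

theorem pw_spec (i j : ℕ) : pw i j < 2048 ∧ app Lm (pw i j) =
    LargeFischer.vp24 (Fin.ofNat 24 i) ^^^ LargeFischer.vp24 (Fin.ofNat 24 j) := by
  have h := all_range lm_li (xor_lt' (vp_lt i) (vp_lt j))
  rw [Bool.and_eq_true] at h
  exact ⟨blt_nat h.2, beq_nat h.1⟩

/-- **The permutations of the list lift to the complement.** -/
theorem exists_gen (hF : F.Good) (hK : Comp F K) {k : ℕ} (hk : k < 10) : ∃ g, Is F K (gm k) g := by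
  have h := all_range gens_ok hk
  simp only [Bool.and_eq_true, List.all_eq_true] at h
  obtain ⟨⟨⟨hM, hp⟩, -⟩, hlt⟩ := h
  simp only [okPair, List.all_eq_true] at hp
  obtain ⟨hok, hmem⟩ := Compute.mem_M24_of_check hM
  obtain ⟨⟨n, hn⟩, hθ⟩ := F.theta_surjective hF ⟨_, hmem⟩
  have hn' : n ∈ (K : Set G) * (F.grp : Set G) := by
    rw [← coe_mul_of_left_le_normalizer_right K F.grp hK.le, hK.sup]
    exact hn
  obtain ⟨a, ha, b, hb, rfl⟩ := Set.mem_mul.1 hn'
  refine ⟨a, ha, fun x hx => blt_nat (hlt x hx), ?_⟩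
  have hab : ∀ {x : ℕ}, x < 2048 → a * b * F.phi x * (a * b)⁻¹ = a * F.phi x * a⁻¹ := fun {x} hx => by
    calc a * b * F.phi x * (a * b)⁻¹ = a * (b * F.phi x * b⁻¹) * a⁻¹ := by group
      _ = _ := by rw [(F.grp_comm hb (F.phi_mem hx)).eq, mul_inv_cancel_right]
  have hpair : ∀ i < 24, ∀ j < 24, a * F.phi (pw i j) * a⁻¹ = F.phi (app (gm k) (pw i j)) := by
    intro i hi j hj
    obtain ⟨hlt1, he1⟩ := pw_spec i j
    have hσi := Compute.rep24.act_lt _ i hok hi
    have hσj := Compute.rep24.act_lt _ j hok hj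
    obtain ⟨hlt2, he2⟩ := pw_spec (Compute.rep24.act (genP.getD k 0) i) (Compute.rep24.act (genP.getD k 0) j)
    rw [beq_nat (hp i (List.mem_range.2 hi) j (List.mem_range.2 hj)), ← hab hlt1]
    have htau := F.tau_apply (⟨a * b, hn⟩ : ↥F.nrm) ⟨F.phi (pw i j), F.phi_mem hlt1⟩
    have hv : ∀ {p r : ℕ}, p < 24 → r < 24 → LargeFischer.bv (LargeFischer.vp24 (Fin.ofNat 24 p) ^^^
        LargeFischer.vp24 (Fin.ofNat 24 r)) =
        LargeFischer.pt (Compute.rep24.pt p) + LargeFischer.pt (Compute.rep24.pt r) := fun {p r} hp hr => by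
      rw [LargeFischer.bv_xor, LargeFischer.pt, LargeFischer.pt, pn_pt hp, pn_pt hr]
    rw [F.vEquiv_phi hlt1, toAdd_ofAdd, he1, hv hi hj, F.perm_spec hF] at htau
    have hperm : (F.perm hF ⟨a * b, hn⟩ : Equiv.Perm GolayPt) = Compute.rep24.den (genP.getD k 0) :=
      congrArg Subtype.val hθ
    have hpt : ∀ p < 24, Compute.rep24.den (genP.getD k 0) (Compute.rep24.pt p) =
        Compute.rep24.pt (Compute.rep24.act (genP.getD k 0) p) := fun p hp =>
      Compute.rep24.act_spec _ p hok hp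
    rw [hperm, hpt i hi, hpt j hj, ← hv hσi hσj, ← he2] at htau
    have h1 : F.vEquiv ⟨F.phi (pw (Compute.rep24.act (genP.getD k 0) i) (Compute.rep24.act (genP.getD k 0) j)),
        F.phi_mem hlt2⟩ = F.vEquiv (F.nHom ⟨a * b, hn⟩ ⟨F.phi (pw i j), F.phi_mem hlt1⟩) := by
      rw [F.vEquiv_phi hlt2, htau]; rfl
    exact (congrArg Subtype.val (F.vEquiv.injective h1)).symm
  refine bitInd 11 (P := fun x => a * F.phi x * a⁻¹ = F.phi (app (gm k) x)) ?_ (fun x y _ _ hx hy => ?_) ?_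
  · rw [Rep.app_zero, F.phi_zero]; group
  · rw [app_xor, F.phi_xor, F.phi_xor, ← hx, ← hy]; group
  · intro i hi
    have h := all_range pairs_ok hi
    rw [Bool.and_eq_true, List.all_eq_true] at h
    obtain ⟨hsum, hb⟩ := h
    rw [← beq_nat hsum]
    generalize pairT.getD i [] = l at hb
    induction l with
    | nil => rw [List.foldr_nil, Rep.app_zero, F.phi_zero]; group
    | cons p l ih =>
      have hp' := hb p List.mem_cons_self
      rw [Bool.and_eq_true] at hp'
      have ih' := ih fun q hq => hb q (List.mem_cons_of_mem _ hq)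
      rw [List.foldr_cons, show ∀ u v : ℕ, Nat.xor u v = u ^^^ v from fun _ _ => rfl, app_xor, F.phi_xor,
        F.phi_xor, ← hpair _ (blt_nat hp'.1) _ (blt_nat hp'.2), ← ih']
      group

/-- The ten generators. -/
structure Gens (F : Frame S) where
  K : Subgroup G
  comp : Comp F K
  g : ℕ → G
  spec : ∀ k < 10, Is F K (gm k) (g k)

theorem exists_gens (F : Frame S) (hF : F.Good) : Nonempty (Gens F) := by
  obtain ⟨K, hK⟩ := exists_comp F hF
  choose g hg using fun k : Fin 10 => exists_gen (F := F) hF hK k.2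
  exact ⟨⟨K, hK, fun k => g (Fin.ofNat 10 k), fun k hk => by
    have h := hg ⟨k, hk⟩
    rwa [show (Fin.ofNat 10 k) = ⟨k, hk⟩ from Fin.ext (Nat.mod_eq_of_lt hk)]⟩⟩

namespace Gens

variable (T : Gens F)

/-- An element with the given matrix, if there is one. -/
noncomputable def el (M : List ℕ) : G :=
  open scoped _root_.Classical in
  if h : ∃ g, Is F T.K M g then h.choose else 1

theorem el_spec {M : List ℕ} {g : G} (h : Is F T.K M g) : T.el M = g := by
  have he : ∃ g, Is F T.K M g := ⟨g, h⟩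
  rw [el, dif_pos he]
  exact Is.unique T.comp he.choose_spec h

theorem el_gm {k : ℕ} (hk : k < 10) : T.el (gm k) = T.g k := T.el_spec (T.spec k hk)

theorem q_mul {a b : ℕ} (ha : a < 64) (hb : b < 64) : Orbits.comp (qm a) (qm b) = qm (a ^^^ b) := by
  have h := q_ok
  simp only [Bool.and_eq_true] at h
  exact eqM_iff.1 (all_range (all_range h.2 ha) hb)

theorem q_is {a : ℕ} (ha : a < 64) : Is F T.K (qm a) (T.el (qm a)) := by
  suffices ∃ g, Is F T.K (qm a) g by
    obtain ⟨g, hg⟩ := this; rwa [T.el_spec hg]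
  have h := q_ok
  simp only [Bool.and_eq_true, eqM_iff] at h
  refine bitInd 6 (P := fun a => ∃ g, Is F T.K (qm a) g) ⟨1, h.1.1.1 ▸ Is.one⟩ (fun x y hx hy => ?_) (fun i hi => ?_) a ha
  · rintro ⟨g, hg⟩ ⟨g', hg'⟩
    exact ⟨g * g', q_mul hx hy ▸ hg.mul hg'⟩
  · exact ⟨_, (eqM_iff.1 (all_range h.1.1.2 hi)).symm ▸ T.spec i (by omega)⟩

/-- The kernel of order sixty-four. -/
noncomputable def qe (a : ℕ) : G := T.el (qm a)

theorem qe_is {a : ℕ} (ha : a < 64) : Is F T.K (qm a) (T.qe a) := T.q_is ha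

theorem qe_mul {a b : ℕ} (ha : a < 64) (hb : b < 64) : T.qe a * T.qe b = T.qe (a ^^^ b) :=
  Is.unique T.comp ((T.qe_is ha).mul (T.qe_is hb))
    (q_mul ha hb ▸ T.qe_is (Nat.xor_lt_two_pow (n := 6) ha hb))

theorem qe_zero : T.qe 0 = 1 := by
  have h := q_ok
  simp only [Bool.and_eq_true, eqM_iff] at h
  exact T.el_spec (h.1.1.1 ▸ Is.one)

theorem qe_two_pow {k : ℕ} (hk : k < 6) : T.qe (2 ^ k) = T.g k := by
  have h := q_ok
  simp only [Bool.and_eq_true] at h
  rw [qe, eqM_iff.1 (all_range h.1.1.2 hk), T.el_gm (by omega)]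

/-- The elements permuting the three octads. -/
noncomputable def sx (i : ℕ) : G := T.el (sixT.getD i [])

theorem sx_is {i : ℕ} (hi : i < 6) : Is F T.K (sixT.getD i []) (T.sx i) := by
  suffices ∃ g, Is F T.K (sixT.getD i []) g by
    obtain ⟨g, hg⟩ := this; rwa [sx, T.el_spec hg]
  have h := six_ok
  simp only [Bool.and_eq_true, eqM_iff] at h
  obtain ⟨⟨⟨⟨⟨h0, h1⟩, h2⟩, h3⟩, h4⟩, h5⟩ := h
  have hx := T.spec 8 (by norm_num)
  have hy := T.spec 9 (by norm_num)
  interval_cases i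
  exacts [⟨_, h0 ▸ Is.one⟩, ⟨_, h1 ▸ hx⟩, ⟨_, h2 ▸ hx.mul hx⟩, ⟨_, h3 ▸ hy⟩, ⟨_, h4 ▸ hy.mul hx⟩,
    ⟨_, h5 ▸ hy.mul (hx.mul hx)⟩]

/-- The matrices of the group of order 168. -/
noncomputable def lm (i : ℕ) : List ℕ := (linT.getD i ([], 0, 0)).1

theorem lin_is {i : ℕ} (hi : i < 168) : ∃ g ∈ closure ({T.g 6, T.g 7} : Set G), Is F T.K (lm i) g := by
  have h := lin_ok
  simp only [Bool.and_eq_true, Bool.or_eq_true, eqM_iff] at h
  obtain ⟨⟨-, h0⟩, hall⟩ := h
  induction i using Nat.strong_induction_on with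
  | _ i ih =>
    by_cases hz : i = 0
    · subst hz; exact ⟨1, one_mem _, by rw [lm, h0]; exact Is.one⟩
    · have h' := List.all_eq_true.1 hall i (List.mem_range.2 hi)
      simp only [Bool.and_eq_true, Bool.or_eq_true, eqM_iff] at h'
      obtain ⟨⟨hp, hg⟩, he⟩ := h'.resolve_left fun e => hz (beq_nat e)
      have hp' := blt_nat hp
      have hg' := blt_nat hg
      obtain ⟨g, hgm, hgi⟩ := ih _ hp' (hp'.trans hi)
      refine ⟨T.g (Nat.add 6 (linT.getD i ([], 0, 0)).2.2) * g, mul_mem (subset_closure ?_) hgm, ?_⟩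
      · rcases (show (linT.getD i ([], 0, 0)).2.2 = 0 ∨ (linT.getD i ([], 0, 0)).2.2 = 1 by omega) with e | e <;>
          rw [e]
        · exact Set.mem_insert _ _
        · exact Set.mem_insert_of_mem _ rfl
      · rw [show lm i = _ from he]
        exact (T.spec _ (by show 6 + _ < 10; omega)).mul hgi

theorem lin_cases {g : G} (hg : g ∈ closure ({T.g 6, T.g 7} : Set G)) : ∃ i < 168, Is F T.K (lm i) g := by
  have h' : g ∈ (closure ({T.g 6, T.g 7} : Set G)).toSubmonoid := hg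
  rw [closure_toSubmonoid_of_finite] at h'
  clear hg
  have h := lin_ok
  simp only [Bool.and_eq_true, eqM_iff] at h
  induction h' using Submonoid.closure_induction_left with
  | one => exact ⟨0, by norm_num, by rw [lm, h.1.2]; exact Is.one⟩
  | mul_left a ha b _ ih =>
    obtain ⟨i, hi, hb⟩ := ih
    have key : ∀ e < 2, ∃ j < 168, Is F T.K (lm j) (T.g (Nat.add 6 e) * b) := fun e he => by
      have := all_range (all_range lin_closed hi) he
      obtain ⟨j, hj, e'⟩ := List.any_eq_true.1 this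
      refine ⟨j, List.mem_range.1 hj, ?_⟩
      rw [show lm j = _ from (eqM_iff.1 e').symm]
      exact (T.spec _ (by show 6 + e < 10; omega)).mul hb
    rcases ha with rfl | rfl
    · exact key 0 (by norm_num)
    · exact key 1 (by norm_num)

end Gens

end Cfsg.Agent.J4Type.Trio
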