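import Cfsg.Agent.J4Type.Trio.Quot

/-!
# The special subgroup has no complement; the linear group inside the normaliser
-/

set_option autoImplicit false
set_option maxRecDepth 20000

open Cfsg Subgroup

namespace Cfsg.Agent.J4Type.Trio

open LargeExtra (oc)
open V11 Rep Orbits

variable {G : Type*} [Group G] [Finite G] {z : G} {P : Subgroup G} {V : Type*} [AddCommGroup V]
  {π : ↥(oc z) →* Multiplicative V} {ρ : ↥(mSub z P) →* Equiv.Perm V} {q : V → ZMod 2} {B : List V}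
  {S : Sys z P π ρ q B} {F : Frame S} (T : Gens F)

theorem cls_bits (v : ℕ) : cls v = (v.testBit 8).toNat + 2 * (v.testBit 10).toNat := by
  rw [Nat.toNat_testBit, Nat.toNat_testBit]
  show v >>> 8 % 2 + 2 * (v >>> 10 % 2) = _
  rw [Nat.shiftRight_eq_div_pow, Nat.shiftRight_eq_div_pow]

theorem cls_xor_of_eq {a b : ℕ} (h : cls a = cls b) : cls (a ^^^ b) = 0 := by
  rw [cls_bits, cls_bits] at h
  rw [cls_bits, Nat.testBit_xor, Nat.testBit_xor]
  revert h
  generalize a.testBit 8 = p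
  generalize b.testBit 8 = q
  generalize a.testBit 10 = r
  generalize b.testBit 10 = s
  cases p <;> cases q <;> cases r <;> cases s <;> decide

theorem gm_len {k : ℕ} (hk : k < 10) : (gm k).length = 11 := by
  have h := all_range gens_ok hk
  simp only [Bool.and_eq_true] at h
  exact beq_nat h.1.2

theorem qm_len : ((List.range 64).all fun a => Nat.beq (qm a).length 11) = true := by decide +kernel

namespace Gens

theorem mat_eq {M N : List ℕ} {g : G} (h1 : Is F T.K M g) (h2 : Is F T.K N g) (l1 : M.length = 11)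
    (l2 : N.length = 11) : M = N := by
  refine List.ext_getElem (l1.trans l2.symm) fun n hn hn' => ?_
  have hlt : 2 ^ n < 2048 :=
    lt_of_lt_of_le (Nat.pow_lt_pow_right (by norm_num) (l1 ▸ hn)) (le_refl (2 ^ 11))
  rw [← app_two_pow M n hn, ← app_two_pow N n hn']
  exact F.phi_inj (app_lt' h1.2.1 _) (app_lt' h2.2.1 _) (by rw [← h1.conj hlt, ← h2.conj hlt])

/-- Uniqueness of the two parts. -/
theorem parts {x y : ℕ} (hx : x < 2048) (hy : y < 2048) {a b : G} (ha : a ∈ T.K) (hb : b ∈ T.K)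
    (h : F.phi x * a = F.phi y * b) : x = y ∧ a = b := by
  have hq : a * b⁻¹ ∈ T.K ⊓ F.grp := by
    refine ⟨T.K.mul_mem ha (T.K.inv_mem hb), (?_ : _ ∈ F.grp)⟩
    have e2 : a * b⁻¹ = (F.phi x)⁻¹ * F.phi y := by
      rw [eq_inv_mul_iff_mul_eq, ← mul_assoc, h, mul_inv_cancel_right]
    rw [e2]
    exact F.grp.mul_mem (F.grp.inv_mem (F.phi_mem hx)) (F.phi_mem hy)
  rw [T.comp.inf, mem_bot, mul_inv_eq_one] at hq
  rw [hq] at h
  exact ⟨F.phi_inj hx hy (mul_right_cancel h), hq⟩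

theorem comm_act5 {g k : G} (hg : g ∈ cz F) (hk : k ∈ mg F) (h : act5 F ⟨k, hk⟩ = 1) :
    g * k * g⁻¹ * k⁻¹ ∈ T.l0 := by
  rw [← T.lgrp_eq]
  refine ⟨⟨g, cz_le_mg hg⟩ * ⟨k, hk⟩ * (⟨g, cz_le_mg hg⟩ : ↥(mg F))⁻¹ * (⟨k, hk⟩ : ↥(mg F))⁻¹,
    ⟨?_, ?_⟩, rfl⟩
  · show act5 F _ = 1
    rw [map_mul, map_mul, map_mul, map_inv, map_inv, h]
    group
  · show g * k * g⁻¹ * k⁻¹ ∈ cz F
    rw [show g * k * g⁻¹ * k⁻¹ = g * (k * g⁻¹ * k⁻¹) by group]
    exact mul_mem hg (conj_cz hk (inv_mem hg))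

theorem act5_l0 {l : G} (hl : l ∈ T.l0) (h : l ∈ mg F) : act5 F ⟨l, h⟩ = 1 := by
  rw [← T.lgrp_eq] at hl
  obtain ⟨m, ⟨hm, -⟩, e⟩ := hl
  rw [show (⟨l, h⟩ : ↥(mg F)) = m from Subtype.ext e.symm]
  exact hm

theorem no_compl {K : Subgroup G} (hK : K ≤ mg F) (hd : K ⊓ T.l0 = ⊥)
    (hs : ∀ m ∈ mg F, ∃ k ∈ K, ∃ l ∈ T.l0, m = k * l) : False := by
  -- the parts of the elements of order seven
  have hk : ∀ e < 2, ∃ x < 2048, ∃ a < 64, F.phi x * T.qe a * T.g (6 + e) ∈ K ∧
      ∃ h : F.phi x * T.qe a * T.g (6 + e) ∈ mg F, act5 F ⟨_, h⟩ = 1 := by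
    intro e he
    have hm := T.g_mem_mg (k := 6 + e) (by omega)
    obtain ⟨k, hk, l, hl, ekl⟩ := hs _ hm
    have hl' : T.g (6 + e) * l⁻¹ * (T.g (6 + e))⁻¹ ∈ T.l0 :=
      (mem_normalizer_iff.1 (T.mg_le_normalizer hm) _).1 (inv_mem hl)
    obtain ⟨x, hx, -, a, ha, hxa⟩ := T.mem_l0.1 hl'
    have ek : F.phi x * T.qe a * T.g (6 + e) = k := by rw [hxa, ekl]; group
    refine ⟨x, hx, a, ha, ek ▸ hk, ek ▸ hK hk, ?_⟩
    have hxa' : F.phi x * T.qe a ∈ T.l0 := hxa ▸ hl'
    rw [show (⟨F.phi x * T.qe a * T.g (6 + e), ek ▸ hK hk⟩ : ↥(mg F)) =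
        ⟨F.phi x * T.qe a, T.l0_le_mg hxa'⟩ * ⟨T.g (6 + e), hm⟩ from rfl, map_mul, T.act5_l0 hxa',
      T.act5_seven he, one_mul]
  obtain ⟨x6, hx6, a, ha, h6K, h6M, h6⟩ := hk 0 (by norm_num)
  obtain ⟨x7, hx7, b, hb, h7K, h7M, h7⟩ := hk 1 (by norm_num)
  -- the parts of the two vectors
  have key : ∀ v ∈ [256, 1024], ∃ w < 2048, cls (v ^^^ w) = 0 ∧ w ∈ fixA.getD a [] ∧ w ∈ fixB.getD b [] := by
    intro v hv
    have hvlt : v < 2048 := by simp only [List.mem_cons, List.not_mem_nil, or_false] at hv; omega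
    have hvc : cls v ≠ 0 := by
      simp only [List.mem_cons, List.not_mem_nil, or_false] at hv
      rcases hv with rfl | rfl <;> decide
    obtain ⟨d, hd', l, hl, edl⟩ := hs _ (cz_le_mg (phi_cz (F := F) hvlt))
    obtain ⟨x, hx, ex, r, hr, hxr⟩ := T.mem_l0.1 (inv_mem hl)
    have hdv : d = F.phi (v ^^^ x) * T.qe r := by
      rw [F.phi_xor, mul_assoc, hxr, edl]; group
    set w := v ^^^ x with hw
    have hwlt : w < 2048 := xor_lt' hvlt hx
    have hwc : cls w ≠ 0 := fun e => hvc (by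
      have := cls_xor_zero hwlt hx e ex
      rwa [hw, Nat.xor_assoc, Nat.xor_self, Nat.xor_zero] at this)
    have hdcz : d ∈ cz F := by
      rw [hdv]; exact mul_mem (phi_cz hwlt) (T.qe_cz hr)
    have comm : ∀ {y c e : ℕ}, y < 2048 → c < 64 → e < 2 → (hm : F.phi y * T.qe c * T.g (6 + e) ∈ mg F) →
        F.phi y * T.qe c * T.g (6 + e) ∈ K → act5 F ⟨_, hm⟩ = 1 →
        app (qm c) (app (gm (6 + e)) w) ^^^ app (qm r) y = w ^^^ y ∧
          T.qe c * T.g (6 + e) * T.qe r = T.qe r * (T.qe c * T.g (6 + e)) := by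
      intro y c e hy hc he hm hmK hact
      have h1 := T.comm_act5 hdcz hm hact
      have h2 : d * (F.phi y * T.qe c * T.g (6 + e)) * d⁻¹ * (F.phi y * T.qe c * T.g (6 + e))⁻¹ ∈ K :=
        mul_mem (mul_mem (mul_mem hd' hmK) (inv_mem hd')) (inv_mem hmK)
      have h3 := hd.le ⟨h2, h1⟩
      rw [mem_bot, mul_inv_eq_one, mul_inv_eq_iff_eq_mul, hdv] at h3
      have i1 := (T.qe_is hc).mul (T.spec (6 + e) (by omega))
      have ir := T.qe_is hr
      have hA : F.phi w * T.qe r * (F.phi y * T.qe c * T.g (6 + e)) =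
          F.phi (w ^^^ app (qm r) y) * (T.qe r * (T.qe c * T.g (6 + e))) := by
        rw [F.phi_xor w (app (qm r) y), ← ir.conj hy]; group
      have hB : F.phi y * T.qe c * T.g (6 + e) * (F.phi w * T.qe r) =
          F.phi (y ^^^ app (qm c) (app (gm (6 + e)) w)) * (T.qe c * T.g (6 + e) * T.qe r) := by
        rw [F.phi_xor y (app (qm c) (app (gm (6 + e)) w)), ← app_app, show List.map (app (qm c)) (gm (6 + e)) = Orbits.comp (qm c) (gm (6 + e)) from rfl,
          ← i1.conj hwlt]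
        group
      rw [hA, hB] at h3
      obtain ⟨e1, e2⟩ := T.parts (xor_lt' hwlt (app_lt' ir.2.1 y))
        (xor_lt' hy (app_lt' (T.qe_is hc).2.1 _)) (T.K.mul_mem ir.1 i1.1) (T.K.mul_mem i1.1 ir.1) h3
      refine ⟨?_, e2.symm⟩
      generalize app (qm c) (app (gm (6 + e)) w) = A at e1 ⊢
      generalize app (qm r) y = Y at e1 ⊢
      have h' := congrArg (fun t => t ^^^ y ^^^ Y) e1
      rw [show w ^^^ Y ^^^ y ^^^ Y = w ^^^ y ^^^ (Y ^^^ Y) by ac_rfl,
        show y ^^^ A ^^^ y ^^^ Y = A ^^^ Y ^^^ (y ^^^ y) by ac_rfl, Nat.xor_self, Nat.xor_self, Nat.xor_zero,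
        Nat.xor_zero] at h'
      exact h'.symm
    -- the part in the kernel of order sixty-four is trivial
    have hr0 : r = 0 := by
      obtain ⟨-, e2⟩ := comm hx6 ha (by norm_num) h6M h6K h6
      have e3 : T.g 6 * T.qe r = T.qe r * T.g 6 := by
        have hc : T.qe r * T.qe a = T.qe a * T.qe r := by
          rw [T.qe_mul hr ha, T.qe_mul ha hr, Nat.xor_comm]
        apply mul_left_cancel (a := T.qe a)
        calc T.qe a * (T.g 6 * T.qe r) = T.qe a * T.g 6 * T.qe r := by group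
          _ = T.qe r * (T.qe a * T.g 6) := e2
          _ = T.qe r * T.qe a * T.g 6 := by group
          _ = T.qe a * T.qe r * T.g 6 := by rw [hc]
          _ = _ := by group
      by_contra hne
      have := all_range s_free hr
      rw [Bool.or_eq_true, Bool.not_eq_true'] at this
      have hh := this.resolve_left fun e => hne (beq_nat e)
      have i6 := T.spec 6 (by norm_num)
      have hl6 : ((List.range 64).all fun a => Nat.beq (qm a).length 11) = true := qm_len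
      rw [T.mat_eq ((T.qe_is hr).mul i6) (e3 ▸ i6.mul (T.qe_is hr))
        (by rw [Orbits.comp, List.length_map, gm_len (by norm_num)])
        (by rw [Orbits.comp, List.length_map, beq_nat (all_range hl6 hr)]), eqM_iff.2 rfl] at hh
      exact Bool.noConfusion hh
    subst hr0
    have hid : ∀ y < 2048, app (qm 0) y = y := fun y hy => by
      have h0 := q_ok
      simp only [Bool.and_eq_true, eqM_iff] at h0
      rw [h0.1.1.1, beq_nat (all_range id11_ok hy)]
    have hA := (comm hx6 ha (by norm_num) h6M h6K h6).1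
    have hB := (comm hx7 hb (by norm_num) h7M h7K h7).1
    rw [hid _ hx6] at hA
    rw [hid _ hx7] at hB
    have hA' : app (qm a) (app (gm 6) w) = w := Nat.xor_left_inj.1 hA
    have hB' : app (qm b) (app (gm 7) w) = w := Nat.xor_left_inj.1 hB
    have hf := all_range (all_range fix_ok ha) hwlt
    have hf' := all_range (all_range fix_ok hb) hwlt
    simp only [Bool.or_eq_true, Bool.and_eq_true, Bool.not_eq_true', List.elem_eq_contains,
      List.contains_iff_mem] at hf hf'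
    have hA2 := (hf.resolve_left fun e => hwc (beq_nat e)).1
    have hB2 := (hf'.resolve_left fun e => hwc (beq_nat e)).2
    rw [hA', Nat.beq_refl] at hA2
    rw [hB', Nat.beq_refl] at hB2
    refine ⟨w, hwlt, ?_, hA2.resolve_left Bool.noConfusion, hB2.resolve_left Bool.noConfusion⟩
    rw [hw, ← Nat.xor_assoc, Nat.xor_self, Nat.zero_xor]
    exact ex
  obtain ⟨w1, hw1, e1, hA1, hB1⟩ := key 256 (by simp)
  obtain ⟨w2, hw2, e2, hA2, hB2⟩ := key 1024 (by simp)
  have h := List.all_eq_true.1 (List.all_eq_true.1 (all_range (all_range fix_one ha) hb) w1 hA1) w2 hA2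
  simp only [Bool.or_eq_true, Bool.not_eq_true', List.elem_eq_contains] at h
  rcases h with (h | h) | h
  · rw [List.contains_iff_mem.2 hB1] at h; exact Bool.noConfusion h
  · rw [List.contains_iff_mem.2 hB2] at h; exact Bool.noConfusion h
  · have h12 := cls_xor_zero (xor_lt' (show (256 : ℕ) < 2048 by norm_num) hw1)
      (xor_lt' (show (1024 : ℕ) < 2048 by norm_num) hw2) e1 e2
    rw [show (256 : ℕ) ^^^ w1 ^^^ (1024 ^^^ w2) = 256 ^^^ 1024 ^^^ (w1 ^^^ w2) by ac_rfl] at h12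
    have h3 := cls_xor_zero (xor_lt' (show (256 : ℕ) ^^^ 1024 < 2048 by decide) (xor_lt' hw1 hw2)) (xor_lt' hw1 hw2) h12
      (cls_xor_of_eq (beq_nat h))
    rw [Nat.xor_assoc (256 ^^^ 1024), Nat.xor_self, Nat.xor_zero] at h3
    exact absurd h3 (by decide)

/-- The linear group inside the normaliser. -/
theorem exists_linear (T : Gens F) : ∃ U : Subgroup G, U ≤ mg F ∧
    Nonempty (↥U ≃* Matrix.SpecialLinearGroup (Fin 3) (ZMod 2)) := by
  obtain ⟨ψ, hψ⟩ : ∃ ψ : ↥(mg F) →* Matrix.SpecialLinearGroup (Fin 3) (ZMod 2),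
      ψ.ker = (cz F).subgroupOf (mg F) := exists_normHom (zg F) (zg_elem F) (card_zg F)
  set U := closure ({T.g 6, T.g 7} : Set G) with hU
  have hle : U ≤ mg F := fun g hg => (T.lin_mem hg).1
  choose g hgm hg using fun i : Fin 168 => T.lin_is i.2
  have hb : Function.Bijective fun i : Fin 168 => (⟨g i, hgm i⟩ : U) := by
    refine ⟨fun i j h => Fin.ext (T.lin_sep i.2 j.2 (hg i) (hg j) ?_), fun u => ?_⟩
    · rw [show g i = g j from congrArg Subtype.val h, inv_mul_cancel]; exact one_mem _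
    · obtain ⟨i, hi, his⟩ := T.lin_cases u.2
      exact ⟨⟨i, hi⟩, Subtype.ext (Is.unique T.comp (hg ⟨i, hi⟩) his)⟩
  have hinj : Function.Injective (ψ.comp (inclusion hle)) := by
    intro u v h
    obtain ⟨i, rfl⟩ := hb.2 u
    obtain ⟨j, rfl⟩ := hb.2 v
    refine congrArg (fun t : Fin 168 => (⟨g t, hgm t⟩ : U)) (Fin.ext (T.lin_sep i.2 j.2 (hg i) (hg j) ?_))
    have h1 : ψ ((inclusion hle ⟨g i, hgm i⟩)⁻¹ * inclusion hle ⟨g j, hgm j⟩) = 1 := by
      rw [map_mul, map_inv]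
      exact inv_mul_eq_one.2 h
    rw [← MonoidHom.mem_ker, hψ] at h1
    exact h1
  refine ⟨U, hle, ⟨MulEquiv.ofBijective _ ((Nat.bijective_iff_injective_and_card _).2 ⟨hinj, ?_⟩)⟩⟩
  rw [← Nat.card_congr (Equiv.ofBijective _ hb), Nat.card_fin, card_sl_three]

end Gens

end Cfsg.Agent.J4Type.Trio
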