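import Cfsg.Agent.J4Type.Trio.Struct
import Cfsg.Agent.J4Type.V11.Transport

/-!
# The quotient is the product of the symmetric group of degree five and the linear group
-/

set_option autoImplicit false
set_option maxRecDepth 20000

open Cfsg Subgroup

namespace Cfsg.Agent.J4Type.Trio

open LargeExtra (oc)
open V11 Rep Orbits
open scoped Pointwise

variable {G : Type*} [Group G] [Finite G] {z : G} {P : Subgroup G} {V : Type*} [AddCommGroup V]
  {π : ↥(oc z) →* Multiplicative V} {ρ : ↥(mSub z P) →* Equiv.Perm V} {q : V → ZMod 2} {B : List V}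
  {S : Sys z P π ρ q B} {F : Frame S} (T : Gens F)

theorem lgrp_conj {m g : G} (hm : m ∈ mg F) (hg : g ∈ lgrp F) : m * g * m⁻¹ ∈ lgrp F := by
  obtain ⟨g', hg', rfl⟩ := hg
  exact ⟨⟨m, hm⟩ * g' * (⟨m, hm⟩ : ↥(mg F))⁻¹, lker_normal.conj_mem g' hg' ⟨m, hm⟩, rfl⟩

/-- An elementary subgroup of the order of the elementary group inside its normaliser is equal to it. -/
theorem eq_grp_of_le {X : Subgroup G} (hel : Cfsg.IsElementaryAbelian 2 X) (hc : Nat.card X = 2 ^ 11)
    (hX : X ≤ F.nrm) : X = F.grp := by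
  have := Fact.mk Nat.prime_two
  have hXA : IsPGroup 2 ↥(X ⊔ F.grp : Subgroup G) := by
    have h1 : X ≤ normalizer (F.grp : Set G) := hX
    exact IsPGroup.to_sup_of_normal_right' (IsPGroup.of_card hc) (IsPGroup.of_card F.card_grp) h1
  obtain ⟨U, hU⟩ := hXA.exists_le_sylow
  exact (S.unique U).unique ⟨le_sup_left.trans hU, hel, hc⟩
    ⟨le_sup_right.trans hU, F.isElementary, F.card_grp⟩

namespace Gens

theorem grp_not_le (_T : Gens F) : ¬ F.grp ≤ lgrp F := by
  intro h
  obtain ⟨c, hc, hcN⟩ := exists_cz_not_nrm F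
  refine hcN (F.mem_nrm_of fun a ha => ?_)
  have hX : F.grp.map (cj c) ≤ F.nrm := by
    rintro _ ⟨b, hb, rfl⟩
    exact (lgrp_le (lgrp_conj (cz_le_mg hc) (h hb))).2
  have hXe := eq_grp_of_le (elem_map (MulAut.conj c) F.isElementary)
    (by show Nat.card ↥(F.grp.map (cj c)) = _; rw [card_map_of_injective (cj_inj c), F.card_grp]) hX
  exact hXe.le ⟨a, ha, rfl⟩

theorem lgrp_eq : lgrp F = T.l0 := by
  refine le_antisymm (fun g hg => ?_) T.l0_le
  by_contra hgl
  obtain ⟨x, hx, a, ha, b, hb, rfl⟩ := T.mem_kf.1 (T.kf_eq ▸ lgrp_le hg : g ∈ T.kf)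
  -- an element of the elementary group outside the subgroup of index four
  obtain ⟨w, hw, hwc, hwL⟩ : ∃ w < 2048, cls w ≠ 0 ∧ F.phi w ∈ lgrp F := by
    by_cases ha0 : a = 0
    · subst ha0
      rw [T.sx_zero, one_mul] at hg hgl
      refine ⟨x, hx, fun e => hgl ⟨x, hx, e, b, hb, rfl⟩, ?_⟩
      have hqL := T.l0_le (show T.qe b ∈ T.l0 from ⟨0, by norm_num, rfl, b, hb, by rw [F.phi_zero, one_mul]⟩)
      simpa using mul_mem hg (inv_mem hqL)
    · have h := all_range six_move ha
      rw [Bool.or_eq_true] at h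
      obtain ⟨v, hv, hvc⟩ := List.any_eq_true.1 (h.resolve_left fun e => ha0 (beq_nat e))
      have hk := List.all_eq_true.1 (all_range (all_range k_class ha) hb) v hv
      rw [Bool.and_eq_true] at hk
      have hlt : v < 2048 := by simp only [List.mem_cons, List.not_mem_nil, or_false] at hv; omega
      set M := Orbits.comp (sixT.getD a []) (qm b) with hM
      have i1 := (T.sx_is ha).mul (T.qe_is hb)
      refine ⟨app M v ^^^ v, xor_lt' (app_lt' i1.2.1 v) hlt, fun e => ?_, ?_⟩
      · rw [Bool.not_eq_true'] at hvc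
        have e' : cls (Nat.xor (app (sixT.getD a []) v) v) = 0 := by
          rw [← beq_nat hk.2]
          have hh : app M v = app (sixT.getD a []) (app (qm b) v) := app_app _ _ _
          rw [← e, hh]; rfl
        rw [e', Nat.beq_refl] at hvc
        exact Bool.noConfusion hvc
      · have hmem : (F.phi x * (T.sx a * T.qe b)) * F.phi v * (F.phi x * (T.sx a * T.qe b))⁻¹ *
            F.phi v ∈ lgrp F := by
          have h2 := lgrp_conj (cz_le_mg (phi_cz hlt)) (inv_mem hg)
          rw [inv_eq_of_mul_eq_one_right (F.phi_sq v)] at h2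
          have := mul_mem hg h2
          convert this using 1
          group
        rwa [show (F.phi x * (T.sx a * T.qe b)) * F.phi v * (F.phi x * (T.sx a * T.qe b))⁻¹ =
            F.phi x * ((T.sx a * T.qe b) * F.phi v * (T.sx a * T.qe b)⁻¹) * (F.phi x)⁻¹ by group,
          i1.conj hlt, (F.phi_comm x _).eq, mul_inv_cancel_right, ← F.phi_xor] at hmem
  -- it generates the elementary group with the subgroup
  refine T.grp_not_le ?_
  rintro _ ⟨v, hv, rfl⟩
  have hi := T.spec 8 (by norm_num)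
  have hxw : F.phi (app (gm 8) w) ∈ lgrp F := by
    rw [← hi.conj hw]; exact lgrp_conj (T.g_mem_mg (by norm_num)) hwL
  have low : ∀ y < 2048, cls y = 0 → F.phi y ∈ lgrp F := fun y hy e =>
    T.l0_le ⟨y, hy, e, 0, by norm_num, by rw [T.qe_zero, mul_one]⟩
  have hbase : ∀ c ∈ [256, 1024], F.phi c ∈ lgrp F := by
    intro c hc
    have hclt : c < 2048 := by simp only [List.mem_cons, List.not_mem_nil, or_false] at hc; omega
    have h := all_range x_span hw
    simp only [Bool.or_eq_true, List.all_eq_true] at h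
    have hxwlt := app_lt' hi.2.1 w
    rcases (h.resolve_left fun e => hwc (beq_nat e)) c hc with ((e | e) | e) | e
    · exact low c hclt (beq_nat e)
    · have h' := mul_mem (low _ (xor_lt' hclt hw) (beq_nat e)) hwL
      rwa [← F.phi_xor, Nat.xor_assoc, Nat.xor_self, Nat.xor_zero] at h'
    · have h' := mul_mem (low _ (xor_lt' hclt hxwlt) (beq_nat e)) hxw
      rwa [← F.phi_xor, Nat.xor_assoc, Nat.xor_self, Nat.xor_zero] at h'
    · have h' := mul_mem (low _ (xor_lt' hclt (xor_lt' hw hxwlt)) (beq_nat e)) (mul_mem hwL hxw)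
      rwa [← F.phi_xor, ← F.phi_xor, Nat.xor_assoc,
        Nat.xor_self, Nat.xor_zero] at h'
  have h := all_range v_split hv
  simp only [Bool.and_eq_true, Bool.or_eq_true] at h
  obtain ⟨⟨⟨hsum, h256⟩, h1024⟩, hlow⟩ := h
  rw [beq_nat hsum, show ∀ u v : ℕ, Nat.xor u v = u ^^^ v from fun _ _ => rfl, F.phi_xor,
    show ∀ u v : ℕ, Nat.xor u v = u ^^^ v from fun _ _ => rfl, F.phi_xor]
  refine mul_mem (low _ (lt_of_le_of_lt (Nat.and_le_left) hv) (beq_nat hlow)) (mul_mem ?_ ?_)
  · rcases h256 with e | e <;> rw [beq_nat e]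
    · rw [F.phi_zero]; exact one_mem _
    · exact hbase 256 (by simp)
  · rcases h1024 with e | e <;> rw [beq_nat e]
    · rw [F.phi_zero]; exact one_mem _
    · exact hbase 1024 (by simp)

theorem mg_le_normalizer : mg F ≤ normalizer (T.l0 : Set G) := fun m hm =>
  mem_normalizer_fintype (S := (T.l0 : Set G)) fun g hg => by
    rw [SetLike.mem_coe, ← T.lgrp_eq] at hg ⊢
    exact lgrp_conj hm hg

theorem l0_le_mg : T.l0 ≤ mg F := by
  rw [← T.lgrp_eq]; exact fun g hg => cz_le_mg (lgrp_le hg).1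

/-- **The quotient.** -/
theorem exists_quot : ∃ Ψ : ↥(mg F) →* X5, Function.Surjective Ψ ∧ Ψ.ker = T.l0.subgroupOf (mg F) ∧
    ∀ m : ↥(mg F), (m : G) ∈ cz F ↔ (Ψ m).2 = 1 := by
  obtain ⟨ψ, hψ⟩ : ∃ ψ : ↥(mg F) →* Matrix.SpecialLinearGroup (Fin 3) (ZMod 2),
      ψ.ker = (cz F).subgroupOf (mg F) := exists_normHom (zg F) (zg_elem F) (card_zg F)
  let e := (Finite.equivFinOfCardEq T.card_cosets).permCongrHom
  let Ψ : ↥(mg F) →* X5 := (e.toMonoidHom.comp (act5 F)).prod ψ
  have hker : Ψ.ker = T.l0.subgroupOf (mg F) := by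
    ext m
    rw [MonoidHom.mem_ker, mem_subgroupOf, ← T.lgrp_eq]
    constructor
    · intro h
      refine ⟨m, ⟨?_, ?_⟩, rfl⟩
      · exact MonoidHom.mem_ker.2 (e.injective ((congrArg Prod.fst h).trans (map_one e).symm))
      · exact (show (cz F).subgroupOf (mg F) ≤ _ from le_rfl) (hψ ▸ MonoidHom.mem_ker.2 (congrArg Prod.snd h))
    · rintro ⟨m', ⟨h1, h2⟩, hm'⟩
      rw [← show m' = m from Subtype.ext hm']
      exact Prod.ext (show e (act5 F m') = 1 by rw [MonoidHom.mem_ker.1 h1, map_one])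
        (MonoidHom.mem_ker.1 (hψ.ge h2))
  refine ⟨Ψ, ?_, hker, fun m => ?_⟩
  · rw [← MonoidHom.range_eq_top]
    refine eq_top_of_le_card _ ?_
    have h := Ψ.ker.card_mul_index
    rw [index_ker, hker, Nat.card_congr (subgroupOfEquivOfLe T.l0_le_mg).toEquiv, T.card_l0, T.card_mg.1] at h
    rw [Nat.card_prod, card_perm_five, card_sl_three]
    omega
  · show (m : G) ∈ cz F ↔ ψ m = 1
    rw [← MonoidHom.mem_ker, hψ]; rfl

end Gens

end Cfsg.Agent.J4Type.Trio
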