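import Cfsg.Agent.J4Type.Trio.Defs
import Cfsg.Agent.J4Type.Trio.Generic

/-!
# The normaliser of the centre modulo the special subgroup
-/

set_option autoImplicit false
set_option maxRecDepth 20000

open Cfsg Subgroup

namespace Cfsg.Agent.J4Type.Trio

open LargeExtra (oc)
open V11 Rep Orbits

variable {G : Type*} [Group G] [Finite G] {z : G} {P : Subgroup G} {V : Type*} [AddCommGroup V]
  {π : ↥(oc z) →* Multiplicative V} {ρ : ↥(mSub z P) →* Equiv.Perm V} {q : V → ZMod 2} {B : List V}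
  {S : Sys z P π ρ q B} {F : Frame S} (T : Gens F)

/-- The normaliser of the elementary group of order eight. -/
def mg (F : Frame S) : Subgroup G := normalizer (zg F : Set G)

theorem cz_le_mg : cz F ≤ mg F := centralizer_le_normalizer _

theorem conj_cz {m c : G} (hm : m ∈ mg F) (hc : c ∈ cz F) : m * c * m⁻¹ ∈ cz F := by
  refine mem_centralizer_iff.2 fun a ha => ?_
  have ha' : m⁻¹ * a * m ∈ zg F := by
    have := (mem_normalizer_iff.1 (inv_mem hm) a).1 ha
    rwa [inv_inv] at this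
  have h := mem_centralizer_iff.1 hc _ ha'
  calc a * (m * c * m⁻¹) = m * (m⁻¹ * a * m * c) * m⁻¹ := by group
    _ = m * (c * (m⁻¹ * a * m)) * m⁻¹ := by rw [h]
    _ = _ := by group

namespace Gens

theorem g_mem_mg {k : ℕ} (hk : k < 10) : T.g k ∈ mg F := by
  refine mem_normalizer_fintype (S := (zg F : Set G)) ?_
  rintro _ ⟨a, ha, rfl⟩
  have h := List.all_eq_true.1 (all_range z_gens hk) a ha
  rw [(T.spec k hk).conj (zT_lt ha)]
  exact ⟨_, by simpa using h, rfl⟩

theorem g_mem_cz {k : ℕ} (hk : k < 6 ∨ k = 8 ∨ k = 9) : T.g k ∈ cz F := by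
  refine mem_centralizer_iff.2 ?_
  rintro _ ⟨a, ha, rfl⟩
  have h := z_fix
  simp only [Bool.and_eq_true, List.all_eq_true] at h
  have e : app (gm k) a = a := by
    rcases hk with hk | rfl | rfl
    · exact beq_nat (h.1 k (List.mem_range.2 hk) a ha)
    · exact beq_nat (h.2 a ha).1
    · exact beq_nat (h.2 a ha).2
  exact ((T.spec k (by omega)).commute (zT_lt ha) e).eq.symm

theorem qe_cz {a : ℕ} (ha : a < 64) : T.qe a ∈ cz F := by
  refine bitInd 6 (P := fun a => T.qe a ∈ cz F) (by rw [T.qe_zero]; exact one_mem _)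
    (fun x y hx hy ex ey => by rw [← T.qe_mul hx hy]; exact mul_mem ex ey)
    (fun i hi => by rw [T.qe_two_pow hi]; exact T.g_mem_cz (Or.inl hi)) a ha

theorem sx_cz {i : ℕ} (hi : i < 6) : T.sx i ∈ cz F := by
  have h := six_ok
  simp only [Bool.and_eq_true, eqM_iff] at h
  obtain ⟨⟨⟨⟨⟨h0, h1⟩, h2⟩, h3⟩, h4⟩, h5⟩ := h
  have hx := T.spec 8 (by norm_num)
  have hy := T.spec 9 (by norm_num)
  have cx := T.g_mem_cz (k := 8) (Or.inr (Or.inl rfl))
  have cy := T.g_mem_cz (k := 9) (Or.inr (Or.inr rfl))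
  interval_cases i
  · rw [sx, T.el_spec (h0 ▸ Is.one)]; exact one_mem _
  · rw [sx, T.el_spec (h1 ▸ hx)]; exact cx
  · rw [sx, T.el_spec (h2 ▸ hx.mul hx)]; exact mul_mem cx cx
  · rw [sx, T.el_spec (h3 ▸ hy)]; exact cy
  · rw [sx, T.el_spec (h4 ▸ hy.mul hx)]; exact mul_mem cy cx
  · rw [sx, T.el_spec (h5 ▸ hy.mul (hx.mul hx))]; exact mul_mem cy (mul_mem cx cx)

theorem qe_sx {b a : ℕ} (hb : b < 64) (ha : a < 6) : ∃ c < 64, T.qe b * T.sx a = T.sx a * T.qe c := by
  obtain ⟨c, hc, e⟩ := List.any_eq_true.1 (all_range (all_range k_swap hb) ha)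
  have hc := List.mem_range.1 hc
  exact ⟨c, hc, Is.unique T.comp ((T.qe_is hb).mul (T.sx_is ha))
    (eqM_iff.1 e ▸ (T.sx_is ha).mul (T.qe_is hc))⟩

theorem sx_mul {a b : ℕ} (ha : a < 6) (hb : b < 6) : ∃ c < 6, T.sx a * T.sx b = T.sx c := by
  obtain ⟨c, hc, e⟩ := List.any_eq_true.1 (all_range (all_range k_six ha) hb)
  have hc := List.mem_range.1 hc
  exact ⟨c, hc, Is.unique T.comp ((T.sx_is ha).mul (T.sx_is hb)) ((eqM_iff.1 e).symm ▸ T.sx_is hc)⟩

theorem sx_zero : T.sx 0 = 1 := by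
  have h := six_ok
  simp only [Bool.and_eq_true, eqM_iff] at h
  exact T.el_spec (h.1.1.1.1.1 ▸ Is.one)

/-- The products of the elementary group with the six and the sixty-four. -/
def kSet (T : Gens F) : Set G :=
  {g | ∃ x < 2048, ∃ a < 6, ∃ b < 64, F.phi x * (T.sx a * T.qe b) = g}

theorem kSet_mul {g h : G} (hg : g ∈ T.kSet) (hh : h ∈ T.kSet) : g * h ∈ T.kSet := by
  obtain ⟨x, hx, a, ha, b, hb, rfl⟩ := hg
  obtain ⟨y, hy, a', ha', b', hb', rfl⟩ := hh
  obtain ⟨c, hc, e1⟩ := T.qe_sx hb ha'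
  obtain ⟨d, hd, e2⟩ := T.sx_mul ha ha'
  have hk := (T.sx_is ha).mul (T.qe_is hb)
  refine ⟨x ^^^ app (Orbits.comp (sixT.getD a []) (qm b)) y, xor_lt' hx (app_lt' hk.2.1 y), d, hd,
    c ^^^ b', Nat.xor_lt_two_pow (n := 6) hc hb', ?_⟩
  rw [F.phi_xor, ← hk.conj hy, ← e2, ← T.qe_mul hc hb']
  calc F.phi x * (T.sx a * T.qe b * F.phi y * (T.sx a * T.qe b)⁻¹) * (T.sx a * T.sx a' * (T.qe c * T.qe b'))
      = F.phi x * (T.sx a * T.qe b * F.phi y * (T.sx a * T.qe b)⁻¹) * (T.sx a * (T.sx a' * T.qe c) * T.qe b') := by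
        group
    _ = _ := by rw [← e1]; group

/-- That set as a subgroup. -/
noncomputable def kf (T : Gens F) : Subgroup G where
  carrier := T.kSet
  one_mem' := ⟨0, by norm_num, 0, by norm_num, 0, by norm_num, by
    rw [F.phi_zero, T.sx_zero, T.qe_zero]; group⟩
  mul_mem' := T.kSet_mul
  inv_mem' := by
    intro g hg
    have hp : ∀ n : ℕ, g ^ (n + 1) ∈ T.kSet := fun n => by
      induction n with
      | zero => rwa [zero_add, pow_one]
      | succ n ih => rw [pow_succ]; exact T.kSet_mul ih hg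
    have ho : 0 < orderOf g := orderOf_pos g
    have e : g⁻¹ = g ^ (2 * orderOf g - 2 + 1) := by
      refine (eq_inv_of_mul_eq_one_left ?_).symm
      rw [← pow_succ, show 2 * orderOf g - 2 + 1 + 1 = orderOf g * 2 by omega, pow_mul, pow_orderOf_eq_one,
        one_pow]
    rw [e]; exact hp _

theorem mem_kf {g : G} : g ∈ T.kf ↔ ∃ x < 2048, ∃ a < 6, ∃ b < 64, F.phi x * (T.sx a * T.qe b) = g := Iff.rfl

theorem kf_le : T.kf ≤ cz F ⊓ F.nrm := by
  rintro _ ⟨x, hx, a, ha, b, hb, rfl⟩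
  refine ⟨(cz F).mul_mem ?_ ((cz F).mul_mem (T.sx_cz ha) (T.qe_cz hb)),
    F.nrm.mul_mem (F.grp_le_nrm (F.phi_mem hx))
      (F.nrm.mul_mem (T.comp.le (T.sx_is ha).1) (T.comp.le (T.qe_is hb).1))⟩
  exact mem_centralizer_iff.2 fun y hy => (F.grp_comm (zg_le F hy) (F.phi_mem hx)).eq

theorem kf_class {a a' b b' : ℕ} (ha : a < 6) (ha' : a' < 6) (hb : b < 64) (hb' : b' < 64)
    (h : ∀ x < 2048, app (Orbits.comp (sixT.getD a []) (qm b)) x =
      app (Orbits.comp (sixT.getD a' []) (qm b')) x) : a = a' := by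
  have hv : ∀ v ∈ [256, 1024], cls (app (sixT.getD a []) v) = cls (app (sixT.getD a' []) v) := by
    intro v hv
    have key : ∀ {a b}, a < 6 → b < 64 →
        cls (app (Orbits.comp (sixT.getD a []) (qm b)) v) = cls (app (sixT.getD a []) v) := fun {a b} ha hb => by
      have := List.all_eq_true.1 (all_range (all_range k_class ha) hb) v hv
      rw [Bool.and_eq_true] at this
      rw [show Orbits.comp (sixT.getD a []) (qm b) = List.map (app (sixT.getD a [])) (qm b) from rfl, app_app]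
      exact beq_nat this.1
    have hlt : v < 2048 := by
      simp only [List.mem_cons, List.not_mem_nil, or_false] at hv
      omega
    rw [← key ha hb, ← key ha' hb', h v hlt]
  have hlen : sixT.length = 6 := rfl
  have := distinctB_get (fun u v e => eqM_iff.2 e) six_class
    (i := a) (j := a') (by rw [List.length_map]; omega) (by rw [List.length_map]; omega)
  apply this
  simp only [List.getElem_map]
  rw [← List.getD_eq_getElem sixT [] (by omega), ← List.getD_eq_getElem sixT [] (by omega),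
    hv 256 (by simp), hv 1024 (by simp)]

theorem card_kf : Nat.card T.kf = 2 ^ 18 * 3 := by
  have hb : Function.Bijective fun p : Fin 2048 × Fin 6 × Fin 64 =>
      (⟨F.phi p.1 * (T.sx p.2.1 * T.qe p.2.2), p.1, p.1.2, p.2.1, p.2.1.2, p.2.2, p.2.2.2, rfl⟩ : T.kf) := by
    refine ⟨?_, ?_⟩
    · rintro ⟨x, a, b⟩ ⟨y, a', b'⟩ h
      have e : F.phi x * (T.sx a * T.qe b) = F.phi y * (T.sx a' * T.qe b') := congrArg Subtype.val h
      have i1 := (T.sx_is a.2).mul (T.qe_is b.2)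
      have i2 := (T.sx_is a'.2).mul (T.qe_is b'.2)
      have hq : (T.sx a * T.qe b) * (T.sx a' * T.qe b')⁻¹ ∈ T.K ⊓ F.grp := by
        refine ⟨T.K.mul_mem i1.1 (T.K.inv_mem i2.1), (?_ : _ ∈ F.grp)⟩
        have e2 : (T.sx a * T.qe b) * (T.sx a' * T.qe b')⁻¹ = (F.phi x)⁻¹ * F.phi y := by
          rw [eq_inv_mul_iff_mul_eq, ← mul_assoc, e, mul_inv_cancel_right]
        rw [e2]
        exact F.grp.mul_mem (F.grp.inv_mem (F.phi_mem x.2)) (F.phi_mem y.2)
      rw [T.comp.inf, mem_bot, mul_inv_eq_one] at hq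
      rw [hq] at e
      have hxy : x = y := Fin.ext (F.phi_inj x.2 y.2 (mul_right_cancel e))
      have hM : ∀ v < 2048, app (Orbits.comp (sixT.getD a []) (qm b)) v =
          app (Orbits.comp (sixT.getD a' []) (qm b')) v := fun v hv =>
        F.phi_inj (app_lt' i1.2.1 v) (app_lt' i2.2.1 v) (by rw [← i1.conj hv, ← i2.conj hv, hq])
      have ha : a = a' := Fin.ext (kf_class a.2 a'.2 b.2 b'.2 hM)
      subst ha
      have hb : b = b' := Fin.ext (qm_inj b.2 b'.2 fun v hv _ =>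
        F.phi_inj (app_lt' (T.qe_is b.2).2.1 v) (app_lt' (T.qe_is b'.2).2.1 v)
          (by rw [← (T.qe_is b.2).conj hv, ← (T.qe_is b'.2).conj hv, mul_left_cancel hq]))
      rw [hxy, hb]
    · rintro ⟨_, x, hx, a, ha, b, hb, rfl⟩
      exact ⟨(⟨x, hx⟩, ⟨a, ha⟩, ⟨b, hb⟩), rfl⟩
  rw [← Nat.card_congr (Equiv.ofBijective _ hb), Nat.card_prod, Nat.card_prod, Nat.card_fin, Nat.card_fin,
    Nat.card_fin]
  norm_num

include T in
theorem card_k0 : Nat.card ↥(cz F ⊓ F.nrm) = 2 ^ 18 * 3 := by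
  obtain ⟨k, hk⟩ := T.card_kf ▸ card_dvd_of_le T.kf_le
  have h2 := card_dvd_of_le (inf_le_left : cz F ⊓ F.nrm ≤ cz F)
  rw [card_cz, hk] at h2
  have h5 : k ∣ 5 := by
    rw [show 2 ^ 18 * 15 = 2 ^ 18 * 3 * 5 by norm_num] at h2
    exact Nat.dvd_of_mul_dvd_mul_left (by norm_num) h2
  rcases (Nat.dvd_prime (by norm_num : Nat.Prime 5)).1 h5 with rfl | rfl
  · rw [hk, mul_one]
  · exfalso
    obtain ⟨g, hg, hgN⟩ := exists_cz_not_nrm F
    have he : cz F ⊓ F.nrm = cz F := eq_of_le_of_card_ge inf_le_left (by rw [hk, card_cz]; norm_num)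
    exact hgN (he.ge hg).2

theorem kf_eq : T.kf = cz F ⊓ F.nrm :=
  eq_of_le_of_card_ge T.kf_le (by rw [T.card_k0, T.card_kf])

theorem lin_mem {g : G} (hg : g ∈ closure ({T.g 6, T.g 7} : Set G)) : g ∈ mg F ⊓ F.nrm := by
  refine (closure_le _).2 ?_ hg
  rintro x (rfl | rfl)
  · exact ⟨T.g_mem_mg (by norm_num), T.comp.le (T.spec 6 (by norm_num)).1⟩
  · exact ⟨T.g_mem_mg (by norm_num), T.comp.le (T.spec 7 (by norm_num)).1⟩

theorem lin_sep {i j : ℕ} (hi : i < 168) (hj : j < 168) {g h : G} (hg : Is F T.K (lm i) g)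
    (hh : Is F T.K (lm j) h) (e : g⁻¹ * h ∈ cz F) : i = j := by
  have key : ∀ a ∈ zT, app (lm i) a = app (lm j) a := fun a ha => by
    refine F.phi_inj (app_lt' hg.2.1 a) (app_lt' hh.2.1 a) ?_
    rw [← hg.conj (zT_lt ha), ← hh.conj (zT_lt ha)]
    calc g * F.phi a * g⁻¹ = g * (F.phi a * (g⁻¹ * h)) * h⁻¹ := by group
      _ = g * (g⁻¹ * h * F.phi a) * h⁻¹ := by rw [(cz_commute F e ha).eq]
      _ = _ := by group
  have hlen : linT.length = 168 := by
    have := lin_ok; simp only [Bool.and_eq_true] at this; exact beq_nat this.1.1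
  refine distinctB_get (fun u v e => eqM_iff.2 e) lin_distinct
    (by rw [List.length_map]; omega) (by rw [List.length_map]; omega) ?_
  simp only [List.getElem_map]
  rw [← List.getD_eq_getElem linT ([], 0, 0) (by omega), ← List.getD_eq_getElem linT ([], 0, 0) (by omega)]
  show [app (lm i) 64, app (lm i) 5, app (lm i) 27] = [app (lm j) 64, app (lm j) 5, app (lm j) 27]
  rw [key 64 (by decide), key 5 (by decide), key 27 (by decide)]

theorem seven {e : ℕ} (he : e < 2) : T.g (6 + e) ^ 7 = 1 ∧ T.g (6 + e) ≠ 1 := by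
  have h := all_range seven_ok he
  simp only [Bool.and_eq_true, Bool.not_eq_true'] at h
  have hk : 6 + e < 10 := by omega
  have hpow : ∀ n : ℕ, Is F T.K ((List.range n).foldr (fun _ r => Orbits.comp (gm (6 + e)) r) id11)
      (T.g (6 + e) ^ n) := by
    intro n
    have hl : ∀ (l : List ℕ), Is F T.K (l.foldr (fun _ r => Orbits.comp (gm (6 + e)) r) id11)
        (T.g (6 + e) ^ l.length) := fun l => by
      induction l with
      | nil => exact (pow_zero (T.g (6 + e))).symm ▸ Is.one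
      | cons a l ih =>
        rw [List.foldr_cons, List.length_cons, pow_succ']
        exact (T.spec _ hk).mul ih
    simpa using hl (List.range n)
  refine ⟨Is.unique T.comp (hpow 7) ((eqM_iff.1 h.1).symm ▸ Is.one), fun h1 => ?_⟩
  have hi := T.spec _ hk
  rw [h1] at hi
  have : gm (6 + e) = id11 := by
    have hgo := all_range gens_ok hk
    simp only [Bool.and_eq_true] at hgo
    refine List.ext_getElem ((beq_nat hgo.1.2).trans rfl) fun n hn hn' => ?_
    have hn11 : n < 11 := hn'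
    have hlt : 2 ^ n < 2048 := lt_of_lt_of_le (Nat.pow_lt_pow_right (by norm_num) hn11) (le_refl (2 ^ 11))
    have e2 := F.phi_inj hlt (app_lt' hi.2.1 _) (by rw [← hi.conj hlt]; group)
    rw [← app_two_pow _ n hn, ← e2, ← beq_nat (all_range id11_ok hlt), app_two_pow _ n hn']
  rw [show Nat.add 6 e = 6 + e from rfl, this, eqM_iff.2 rfl] at h
  exact Bool.noConfusion h.2

end Gens

/-- The part of the normaliser inside that of the elementary group. -/
def mkh (F : Frame S) : Subgroup ↥(mg F) := F.nrm.subgroupOf (mg F)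

/-- The action on the five cosets. -/
noncomputable def act5 (F : Frame S) : ↥(mg F) →* Equiv.Perm (↥(mg F) ⧸ mkh F) :=
  MulAction.toPermHom ↥(mg F) (↥(mg F) ⧸ mkh F)

/-- The kernel of the action inside the centraliser. -/
noncomputable def lker (F : Frame S) : Subgroup ↥(mg F) := (act5 F).ker ⊓ (cz F).subgroupOf (mg F)

/-- The same in the group. -/
noncomputable def lgrp (F : Frame S) : Subgroup G := (lker F).map (mg F).subtype

theorem lker_normal : (lker F).Normal := by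
  refine @Subgroup.normal_inf_normal _ _ _ _ inferInstance ⟨fun n hn g => ?_⟩
  exact conj_cz g.2 hn

theorem lgrp_le : lgrp F ≤ cz F ⊓ F.nrm := by
  rintro _ ⟨g, ⟨hk, hc⟩, rfl⟩
  refine ⟨hc, ?_⟩
  have h : act5 F g (QuotientGroup.mk (1 : ↥(mg F))) = QuotientGroup.mk (1 : ↥(mg F)) := by
    rw [MonoidHom.mem_ker.1 hk]; rfl
  have h' : (QuotientGroup.mk (g * 1) : ↥(mg F) ⧸ mkh F) = QuotientGroup.mk 1 := h
  rw [mul_one, QuotientGroup.eq, mul_one] at h'
  exact (show (g : G) ∈ F.nrm from (Subgroup.inv_mem_iff (mkh F)).1 h')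

namespace Gens

include T in
theorem card_mg : Nat.card (mg F) = 168 * (2 ^ 18 * 15) ∧ Nat.card ↥(mkh F) = 168 * (2 ^ 18 * 3) := by
  obtain ⟨ψ, hψ⟩ : ∃ ψ : ↥(mg F) →* Matrix.SpecialLinearGroup (Fin 3) (ZMod 2),
      ψ.ker = (cz F).subgroupOf (mg F) := exists_normHom (zg F) (zg_elem F) (card_zg F)
  choose g hgm hg using fun i : Fin 168 => T.lin_is i.2
  have key : ∀ U : Subgroup ↥(mg F), (∀ i, (⟨g i, (T.lin_mem (hgm i)).1⟩ : ↥(mg F)) ∈ U) →
      Nat.card U = 168 * Nat.card ↥(((cz F).subgroupOf (mg F)).subgroupOf U) := by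
    intro U hU
    set f : ↥U →* Matrix.SpecialLinearGroup (Fin 3) (ZMod 2) := ψ.comp U.subtype
    have hk : f.ker = ((cz F).subgroupOf (mg F)).subgroupOf U := by
      ext u
      show ψ (u : ↥(mg F)) = 1 ↔ _
      rw [← MonoidHom.mem_ker, hψ]; rfl
    have hr : Nat.card f.range = 168 := by
      refine le_antisymm (le_trans (Subgroup.card_le_card_group _) card_sl_three.le) ?_
      refine le_of_eq_of_le (Nat.card_fin 168).symm (Nat.card_le_card_of_injective
        (fun i => (⟨f ⟨_, hU i⟩, ⟨_, rfl⟩⟩ : f.range)) fun i j hij => ?_)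
      refine Fin.ext (T.lin_sep i.2 j.2 (hg i) (hg j) ?_)
      have h1 : f (⟨_, hU i⟩⁻¹ * ⟨_, hU j⟩) = 1 := by
        rw [map_mul, map_inv, show f ⟨_, hU i⟩ = f ⟨_, hU j⟩ from congrArg Subtype.val hij, inv_mul_cancel]
      rw [← MonoidHom.mem_ker, hk] at h1
      exact h1
    have h := f.ker.card_mul_index
    rw [index_ker, hr, hk] at h
    rw [← h, mul_comm]
  constructor
  · have h := key ⊤ fun i => mem_top _
    rw [card_top, Nat.card_congr (subgroupOfEquivOfLe le_top).toEquiv,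
      Nat.card_congr (subgroupOfEquivOfLe cz_le_mg).toEquiv, card_cz] at h
    exact h
  · rw [key (mkh F) fun i => (T.lin_mem (hgm i)).2, ← T.card_k0]
    congr 1
    exact Nat.card_congr
      { toFun := fun u => ⟨u.1.1.1, u.2, u.1.2⟩
        invFun := fun u => ⟨⟨⟨u.1, cz_le_mg u.2.1⟩, u.2.2⟩, u.2.1⟩
        left_inv := fun u => rfl
        right_inv := fun u => rfl }

include T in
theorem card_cosets : Nat.card (↥(mg F) ⧸ mkh F) = 5 := by
  have h := (mkh F).card_eq_card_quotient_mul_card_subgroup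
  rw [T.card_mg.1, T.card_mg.2] at h
  omega

include T in
theorem card_perm_cosets : Nat.card (Equiv.Perm (↥(mg F) ⧸ mkh F)) = 120 := by
  rw [Nat.card_perm, T.card_cosets]; rfl

theorem act5_seven {e : ℕ} (he : e < 2) :
    act5 F ⟨T.g (6 + e), T.g_mem_mg (by omega)⟩ = 1 := by
  rw [← orderOf_eq_one_iff]
  refine Nat.eq_one_of_dvd_coprimes (show Nat.Coprime 7 120 by norm_num) ?_ ?_
  · refine orderOf_dvd_of_pow_eq_one ?_
    rw [← map_pow, show (⟨T.g (6 + e), T.g_mem_mg (by omega)⟩ : ↥(mg F)) ^ 7 = 1 from Subtype.ext (T.seven he).1,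
      map_one]
  · rw [← T.card_perm_cosets]; exact orderOf_dvd_natCard _

theorem comm_lgrp {g : G} (hg : g ∈ cz F) : g * T.g 6 * g⁻¹ * (T.g 6)⁻¹ ∈ lgrp F := by
  have hs := T.g_mem_mg (k := 6) (by norm_num)
  have h7 : act5 F ⟨T.g 6, hs⟩ = 1 := T.act5_seven (e := 0) (by norm_num)
  refine ⟨⟨g, cz_le_mg hg⟩ * ⟨T.g 6, hs⟩ * (⟨g, cz_le_mg hg⟩ : ↥(mg F))⁻¹ * (⟨T.g 6, hs⟩ : ↥(mg F))⁻¹,
    ⟨?_, ?_⟩, rfl⟩
  · show act5 F _ = 1
    rw [map_mul, map_mul, map_mul, map_inv, map_inv, h7]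
    group
  · show g * T.g 6 * g⁻¹ * (T.g 6)⁻¹ ∈ cz F
    rw [show g * T.g 6 * g⁻¹ * (T.g 6)⁻¹ = g * (T.g 6 * g⁻¹ * (T.g 6)⁻¹) by group]
    exact mul_mem hg (conj_cz hs (inv_mem hg))

theorem phi_cz {x : ℕ} (hx : x < 2048) : F.phi x ∈ cz F :=
  mem_centralizer_iff.2 fun a ha => (F.grp_comm (zg_le F ha) (F.phi_mem hx)).eq

theorem l0_le : T.l0 ≤ lgrp F := by
  have hv : ∀ x < 2048, F.phi (x &&& 767) ∈ lgrp F := by
    refine bitInd 11 (P := fun x => F.phi (x &&& 767) ∈ lgrp F) (by rw [Nat.zero_and, F.phi_zero]; exact one_mem _)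
      (fun a b _ _ ea eb => by rw [Nat.and_xor_distrib_right, F.phi_xor]; exact mul_mem ea eb) (fun i hi => ?_)
    by_cases h8 : i = 8 ∨ i = 10
    · rcases h8 with rfl | rfl <;>
      · rw [show (2 : ℕ) ^ _ &&& 767 = 0 by decide, F.phi_zero]; exact one_mem _
    · rw [show 2 ^ i &&& 767 = 2 ^ i by
        interval_cases i <;> first | rfl | exact absurd (by norm_num) h8]
      have h := all_range pre_ok hi
      simp only [Bool.or_eq_true, Bool.and_eq_true] at h
      obtain ⟨hlt, he⟩ := h.resolve_left fun e => h8 (e.imp beq_nat beq_nat)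
      have hs := T.spec 6 (by norm_num)
      have := T.comm_lgrp (phi_cz (blt_nat hlt))
      rw [show F.phi (preT.getD i 0) * T.g 6 * (F.phi (preT.getD i 0))⁻¹ * (T.g 6)⁻¹ =
          F.phi (preT.getD i 0) * (T.g 6 * (F.phi (preT.getD i 0))⁻¹ * (T.g 6)⁻¹) by group,
        inv_eq_of_mul_eq_one_right (F.phi_sq _), hs.conj (blt_nat hlt), ← F.phi_xor,
        show preT.getD i 0 ^^^ app (gm 6) (preT.getD i 0) = 2 ^ i from beq_nat he] at this
      exact this
  have hq : ∀ a < 64, T.qe a ∈ lgrp F := by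
    refine bitInd 6 (P := fun a => T.qe a ∈ lgrp F) (by rw [T.qe_zero]; exact one_mem _)
      (fun x y hx hy ex ey => by rw [← T.qe_mul hx hy]; exact mul_mem ex ey) (fun i hi => ?_)
    have h := all_range qc_ok hi
    simp only [Bool.and_eq_true, eqM_iff] at h
    obtain ⟨hlt, he⟩ := h
    have hc := T.qe_is (blt_nat hlt)
    have hs := T.spec 6 (by norm_num)
    have e := Is.unique T.comp (he ▸ hc.mul hs) ((T.spec i (by omega)).mul (hs.mul hc))
    have := T.comm_lgrp (T.qe_cz (blt_nat hlt))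
    rw [e, show T.g i * (T.g 6 * T.qe (qcT.getD i 0)) * (T.qe (qcT.getD i 0))⁻¹ * (T.g 6)⁻¹ = T.g i by group,
      ← T.qe_two_pow hi] at this
    exact this
  rintro _ ⟨x, hx, ex, a, ha, rfl⟩
  rw [← (cls_iff hx).1 ex]
  exact mul_mem (hv x hx) (hq a ha)

end Gens

end Cfsg.Agent.J4Type.Trio
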